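import Cfsg.Agent.Lib.Chevalley.G2Inv
import Cfsg.Agent.Lib.Chevalley.Data.D4
import Cfsg.Agent.Lib.Chevalley.Data.D4Comm
import Cfsg.Agent.Lib.NumberTheory.SwapClosure
import Cfsg.Agent.Lib.Chevalley.CoxeterTorus.Main

/-!
Perfect subgroups of the centralizer of an involution of D₄ lie in the product of four SL₂.
-/

set_option autoImplicit false
set_option maxRecDepth 20000

namespace CfsgLib.KnownA.D4Sec

open CfsgLib.Chevalley CfsgLib.Chevalley.Tbl
open scoped MatrixGroups Pointwise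

local notation "T4" => Data.D4.tbl
local notation "hV4" => Data.D4.valid
local notation "hC4" => Data.D4.chkComm

variable {K : Type*} [Field K]

/-- Parity of a root at the involution. -/
def par (r : ℕ) : ℤ := ((T4).ca 0 r + (T4).ca 2 r + (T4).ca 3 r) % 2

/-- Four orthogonal roots. -/
def r4 : Fin 4 → Fin (T4).n := ![⟨18, by decide⟩, ⟨13, by decide⟩, ⟨12, by decide⟩, ⟨23, by decide⟩]

/-- The parameters of the involution. -/
def zf : Fin (T4).rank → Kˣ := (![-1, 1, -1, -1] : Fin 4 → Kˣ)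

theorem even_roots : ∀ r : Fin (T4).n,
    (par r.val = 0 ↔ ∃ i, r = r4 i ∨ r.val = (T4).neg (r4 i).val) := by decide +kernel

theorem ortho : ∀ i j : Fin 4, i ≠ j → ∀ r ∈ [(r4 i).val, (T4).neg (r4 i).val],
    ∀ s ∈ [(r4 j).val, (T4).neg (r4 j).val],
      s ≠ r ∧ s ≠ (T4).neg r ∧ (T4).sum? r s = none := by decide +kernel

theorem even_of_neg_one_zpow (h2 : (2 : K) ≠ 0) {a b : ℤ} (h : (-1 : Kˣ) ^ a = (-1) ^ b) : a % 2 = b % 2 := by
  by_contra hne
  refine h2 ?_
  obtain ⟨m, hm⟩ : ∃ m, a = b + (2 * m + 1) := ⟨(a - b - 1) / 2, by omega⟩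
  rw [hm, _root_.zpow_add, mul_eq_left, _root_.zpow_add, zpow_mul, zpow_one] at h
  have h' : (-1 : K) = 1 := congrArg Units.val (by simpa using h)
  linear_combination -h'

/-- The involution. -/
noncomputable def zeta : GL (T4).I K := torusHom T4 K zf

theorem zeta_char (s : ℕ) : (∏ i, (zf i : Kˣ) ^ (T4).ca i.val s) =
    (-1 : Kˣ) ^ ((T4).ca 0 s + (T4).ca 2 s + (T4).ca 3 s) := by
  show ∏ i : Fin 4, (![-1, 1, -1, -1] : Fin 4 → Kˣ) i ^ (T4).ca i.val s = _
  rw [Fin.prod_univ_four]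
  simp [_root_.zpow_add]

theorem zeta_diag : (zeta : GL (T4).I K) ∈ (T4).datum.diagonalSubgroup K :=
  torusHom_range (F := K) hV4 ▸ ⟨zf, rfl⟩

theorem zeta_X (r : Fin (T4).n) (t : K) : (zeta : GL (T4).I K) * (T4).xU K r.val t =
    (T4).xU K r.val ((((-1 : Kˣ) ^ ((T4).ca 0 r.val + (T4).ca 2 r.val + (T4).ca 3 r.val) : Kˣ) : K) * t) *
      zeta := by
  have h := CoxeterTorus.torus_xU (T := T4) hV4 (zf : Fin (T4).rank → Kˣ) r t
  rw [CoxeterTorus.tCh, zeta_char] at h
  exact h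

/-- The subgroup generated by the even root elements. -/
noncomputable def M4 (K : Type*) [Field K] : Subgroup (GL (T4).I K) := (T4).rootGen K (fun r => par r = 0)

theorem xU_commute4 {r s : ℕ} (hr : r < (T4).n) (hs : s < (T4).n) (hne : s ≠ r) (hnn : s ≠ (T4).neg r)
    (h : (T4).sum? r s = none) (t u : K) : Commute ((T4).xU K r t : GL (T4).I K) ((T4).xU K s u) := by
  have e := comm_xU (F := K) hV4 hC4 hr hs hne hnn t u
  rw [commT_eq_nil hV4 hr hs h] at e
  simp only [List.map_nil, List.prod_nil, mul_one] at e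
  exact e.symm

/-- The SL₂ of a root. -/
noncomputable def phi4 (i : Fin 4) : SL(2, K) →* GL (T4).I K := (sl2Data (F := K) hV4 (r4 i).2).hom

theorem phi4_ux (i : Fin 4) (t : K) : phi4 i (SL2.ux t) = (T4).xU K (r4 i).val t :=
  (sl2Data hV4 (r4 i).2).hom_upper _ t rfl

theorem phi4_lx (i : Fin 4) (t : K) : phi4 i (G2Inv.lx t) = (T4).xU K ((T4).neg (r4 i).val) t :=
  (sl2Data hV4 (r4 i).2).hom_lower _ t rfl

theorem phi4_commute_of (i : Fin 4) (m : GL (T4).I K)
    (h1 : ∀ t, Commute m ((T4).xU K (r4 i).val t))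
    (h2 : ∀ t, Commute m ((T4).xU K ((T4).neg (r4 i).val) t)) (g : SL(2, K)) : Commute m (phi4 i g) := by
  have e : (MulAut.conj m).toMonoidHom.comp (phi4 i) = phi4 i := by
    refine G2Inv.hom_ext _ _ (fun u => ?_) fun u => ?_
    · rw [MonoidHom.comp_apply, phi4_ux]
      exact mul_inv_eq_iff_eq_mul.mpr (h1 u).eq
    · rw [MonoidHom.comp_apply, phi4_lx]
      exact mul_inv_eq_iff_eq_mul.mpr (h2 u).eq
  exact mul_inv_eq_iff_eq_mul.mp (DFunLike.congr_fun e g)

theorem phi4_commute {i j : Fin 4} (h : i ≠ j) (x y : SL(2, K)) : Commute (phi4 i x) (phi4 j y) := by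
  have hX : ∀ r ∈ [(r4 i).val, (T4).neg (r4 i).val], ∀ s ∈ [(r4 j).val, (T4).neg (r4 j).val], ∀ t u : K,
      Commute ((T4).xU K r t : GL (T4).I K) ((T4).xU K s u) := by
    intro r hr s hs t u
    obtain ⟨a, b, c⟩ := ortho i j h r hr s hs
    have lt : ∀ k, ∀ r ∈ [(r4 k).val, (T4).neg (r4 k).val], r < (T4).n := by decide +kernel
    exact xU_commute4 (lt i r hr) (lt j s hs) a b c t u
  have h1 : ∀ s ∈ [(r4 j).val, (T4).neg (r4 j).val], ∀ u : K, Commute ((T4).xU K s u) (phi4 i x) := fun s hs u =>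
    phi4_commute_of i _ (fun t => (hX _ List.mem_cons_self s hs t u).symm)
      (fun t => (hX _ (List.mem_cons_of_mem _ List.mem_cons_self) s hs t u).symm) x
  exact phi4_commute_of j _ (fun u => (h1 _ List.mem_cons_self u).symm)
    (fun u => (h1 _ (List.mem_cons_of_mem _ List.mem_cons_self) u).symm) y

/-- The product of the last two. -/
noncomputable def pr2 : SL(2, K) × SL(2, K) →* GL (T4).I K :=
  (phi4 2).noncommCoprod (phi4 3) fun x y => phi4_commute (by decide) x y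

/-- The product of the last three. -/
noncomputable def pr3 : SL(2, K) × (SL(2, K) × SL(2, K)) →* GL (T4).I K :=
  (phi4 1).noncommCoprod pr2 fun x y =>
    (phi4_commute (by decide) x y.1).mul_right (phi4_commute (by decide) x y.2)

/-- The product of the four. -/
noncomputable def pr4 : SL(2, K) × (SL(2, K) × (SL(2, K) × SL(2, K))) →* GL (T4).I K :=
  (phi4 0).noncommCoprod pr3 fun x y => (phi4_commute (by decide) x y.1).mul_right
    ((phi4_commute (by decide) x y.2.1).mul_right (phi4_commute (by decide) x y.2.2))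

theorem phi4_mem (i : Fin 4) (x : SL(2, K)) : phi4 i x ∈ (pr4 (K := K)).range := by
  fin_cases i
  · exact ⟨(x, 1, 1, 1), by simp [pr4, pr3, pr2]⟩
  · exact ⟨(1, x, 1, 1), by simp [pr4, pr3, pr2]⟩
  · exact ⟨(1, 1, x, 1), by simp [pr4, pr3, pr2]⟩
  · exact ⟨(1, 1, 1, x), by simp [pr4, pr3, pr2]⟩

theorem M4_le : M4 K ≤ (pr4 (K := K)).range := by
  refine rootGen_le fun r hr hp t => ?_
  obtain ⟨i, h | h⟩ := (even_roots ⟨r, hr⟩).1 hp
  · rw [show r = (r4 i).val from congrArg Fin.val h, ← phi4_ux]; exact phi4_mem i _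
  · rw [show r = (T4).neg (r4 i).val from h, ← phi4_lx]; exact phi4_mem i _

theorem fixed_mem4 (h2 : (2 : K) ≠ 0) : ∀ m k, k + m = (T4).n → (T4).half ≤ k →
    ∀ g ∈ (T4).rootGen K (fun r => k ≤ r), Commute (zeta : GL (T4).I K) g → g ∈ M4 K := by
  intro m
  induction m with
  | zero =>
    intro k hkm _ g hg _
    rw [show k = (T4).n by omega, ge_n_eq_bot hV4, Subgroup.mem_bot] at hg
    rw [hg]; exact one_mem _
  | succ m ih =>
    intro k hkm hk g hg hz
    have hkn : k < (T4).n := by omega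
    obtain ⟨t, g', hg', rfl⟩ := (mem_ge_iff hV4 hC4 hk hkn).mp hg
    have hg'' : (zeta : GL (T4).I K) * g' * zeta⁻¹ ∈ (T4).rootGen K (fun r => k + 1 ≤ r) :=
      (Subgroup.mem_normalizer_iff.mp (diag_le_normalizer hV4 _ zeta_diag) g').mp hg'
    have e : (T4).xU K k ((((-1 : Kˣ) ^ ((T4).ca 0 k + (T4).ca 2 k + (T4).ca 3 k) : Kˣ) : K) * t) *
        ((zeta : GL (T4).I K) * g' * zeta⁻¹) = (T4).xU K k t * g' := by
      have := mul_inv_eq_iff_eq_mul.mpr hz.eq
      conv_rhs => rw [← this]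
      have h := zeta_X (K := K) ⟨k, hkn⟩ t
      dsimp only at h
      rw [← mul_assoc (zeta : GL (T4).I K), h]
      group
    obtain ⟨ht, hg2⟩ := xU_mul_inj hV4 hC4 hk hkn hg'' hg' e
    have hrec := ih (k + 1) (by omega) (by omega) g' hg' (mul_inv_eq_iff_eq_mul.mp hg2)
    by_cases hk7 : par k = 0
    · exact mul_mem (xU_mem_rootGen (P := fun r => par r = 0) hkn hk7 t) hrec
    · have : t = 0 := by
        by_contra ht0
        have h1 : ((-1 : Kˣ) ^ ((T4).ca 0 k + (T4).ca 2 k + (T4).ca 3 k) : Kˣ) = 1 :=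
          Units.ext (mul_right_cancel₀ ht0 (ht.trans (one_mul t).symm))
        exact hk7 (by simpa [par] using even_of_neg_one_zpow h2 (h1.trans (zpow_zero (-1 : Kˣ)).symm))
      rw [this, xU_zero hV4 hkn, one_mul]
      exact hrec

/-- The monomial elements commuting with the involution. -/
noncomputable def NZ (K : Type*) [Field K] : Subgroup (GL (T4).I K) :=
  (T4).datum.monomialSubgroup K ⊓ Subgroup.centralizer {(zeta : GL (T4).I K)}

theorem par_eq (h2 : (2 : K) ≠ 0) {n : GL (T4).I K} (hn : n ∈ NZ K) {w : Equiv.Perm (Fin (T4).n)}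
    (hm : (T4).Mono n w) (s : Fin (T4).n) : par (w s).val = par s.val := by
  have hc : n * zeta = zeta * n := Subgroup.mem_centralizer_singleton_iff.1 (Subgroup.mem_inf.1 hn).2
  obtain ⟨c, hc'⟩ := hm.conj s
  have e := (hc' 1).1
  rw [mul_one] at e
  have e2 : (zeta : GL (T4).I K) * (n * (T4).xU K s 1) =
      n * (T4).xU K s ((((-1 : Kˣ) ^ ((T4).ca 0 s.val + (T4).ca 2 s.val + (T4).ca 3 s.val) : Kˣ) : K) * 1) *
        zeta := by
    rw [← mul_assoc, ← hc, mul_assoc, zeta_X, ← mul_assoc]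
  rw [e, (hc' _).1] at e2
  conv_lhs at e2 => rw [← mul_assoc, zeta_X (w s) (c : K), mul_assoc, ← hc, ← mul_assoc]
  have e3 := xU_inj hV4 (w s).2 (mul_right_cancel (mul_right_cancel e2))
  have h4 : ((-1 : Kˣ) ^ ((T4).ca 0 (w s).val + (T4).ca 2 (w s).val + (T4).ca 3 (w s).val) : Kˣ) =
      (-1 : Kˣ) ^ ((T4).ca 0 s.val + (T4).ca 2 s.val + (T4).ca 3 s.val) :=
    Units.ext (mul_right_cancel₀ c.ne_zero (e3.trans (by ring)))
  exact even_of_neg_one_zpow h2 h4

theorem NZ_normalizes (h2 : (2 : K) ≠ 0) : NZ K ≤ Subgroup.normalizer ((M4 K : Subgroup (GL (T4).I K)) : Set _) := by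
  have one : ∀ n ∈ NZ K, (M4 K).map (MulAut.conj n).toMonoidHom ≤ M4 K := by
    intro n hn
    obtain ⟨w, -, hm⟩ := exists_mono hV4 (Subgroup.mem_inf.1 hn).1
    rw [Subgroup.map_le_iff_le_comap]
    refine rootGen_le fun r hr hp t => ?_
    show n * (T4).xU K r t * n⁻¹ ∈ M4 K
    obtain ⟨c, hc⟩ := hm.conj ⟨r, hr⟩
    have hrt := (hc t).1
    dsimp only at hrt
    rw [hrt, mul_inv_cancel_right]
    exact xU_mem_rootGen (P := fun r => par r = 0) (w _).2 ((par_eq h2 hn hm _).trans hp) _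
  intro n hn
  refine Subgroup.mem_normalizer_iff.2 fun x => ⟨fun hx => one n hn ⟨x, hx, rfl⟩, fun hx => ?_⟩
  have := one n⁻¹ (inv_mem hn) ⟨_, hx, rfl⟩
  simpa [mul_assoc] using this

theorem co_injective4 : ∀ u : Fin (T4).n, ∀ v : Fin (T4).n,
    (∀ k : Fin 4, (T4).co u.val k.val = (T4).co v.val k.val) → u = v := by decide +kernel

theorem co_highest : ∀ k : Fin 4, (T4).co 23 k.val = [1, 2, 1, 1].getD k.val 0 := by decide +kernel

theorem det4 {w w' : Equiv.Perm (Fin (T4).n)} (hw : w ∈ (T4).WP hV4) (hw' : w' ∈ (T4).WP hV4)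
    (h : ∀ i, w (r4 i) = w' (r4 i)) : w = w' := by
  have hs : ∀ j < (T4).rank, ∀ k : Fin 4,
      (T4).co (w ((T4).simpF hV4 k)).val j = (T4).co (w' ((T4).simpF hV4 k)).val j := by
    intro j hj
    have a := WP_linear hV4 hw (r4 3) hj
    have b := WP_linear hV4 hw' (r4 3) hj
    rw [h 3] at a
    change _ = ∑ k : Fin 4, (T4).co 23 k.val * _ at a
    change _ = ∑ k : Fin 4, (T4).co 23 k.val * _ at b
    simp only [co_highest, Fin.sum_univ_four] at a b
    simp at a b
    have s0 : (T4).simpF hV4 (0 : Fin 4) = r4 0 := by decide +kernel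
    have s2 : (T4).simpF hV4 (2 : Fin 4) = r4 1 := by decide +kernel
    have s3 : (T4).simpF hV4 (3 : Fin 4) = r4 2 := by decide +kernel
    intro k
    fin_cases k
    · exact congrArg (fun u : Fin (T4).n => (T4).co u.val j) (s0 ▸ h 0)
    · have e0 := congrArg (fun u : Fin (T4).n => (T4).co u.val j) (s0 ▸ h 0)
      have e2 := congrArg (fun u : Fin (T4).n => (T4).co u.val j) (s2 ▸ h 1)
      have e3 := congrArg (fun u : Fin (T4).n => (T4).co u.val j) (s3 ▸ h 2)
      simp only at e0 e2 e3 ⊢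
      show (T4).co (w ((T4).simpF hV4 (1 : Fin 4))).val j = (T4).co (w' ((T4).simpF hV4 (1 : Fin 4))).val j
      omega
    · exact congrArg (fun u : Fin (T4).n => (T4).co u.val j) (s2 ▸ h 1)
    · exact congrArg (fun u : Fin (T4).n => (T4).co u.val j) (s3 ▸ h 2)
  refine Equiv.ext fun s => co_injective4 _ _ fun j => ?_
  rw [WP_linear hV4 hw s j.2, WP_linear hV4 hw' s j.2]
  exact Finset.sum_congr rfl fun k _ => by rw [hs j.val j.2 k]

theorem r4_unique : ∀ i j : Fin 4, (r4 i = r4 j ∨ r4 i = (T4).negF (r4 j)) → i = j := by decide +kernel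

theorem NZ_solvable (h2 : (2 : K) ≠ 0) : Group.IsSolvable ↥(NZ K) := by
  classical
  let W : ↥(NZ K) →* Equiv.Perm (Fin (T4).n) :=
    ((T4).WP hV4).subtype.comp ((wHom K hV4).comp (Subgroup.inclusion inf_le_left))
  have hW : ∀ n, W n ∈ (T4).WP hV4 := fun n => (wHom K hV4 _).2
  have hM : ∀ n : ↥(NZ K), (T4).Mono (n : GL (T4).I K) (W n) := fun n => mono_wHom hV4 (Subgroup.inclusion inf_le_left n)
  have hneg : ∀ (n : ↥(NZ K)) (r : Fin (T4).n), W n ((T4).negF r) = (T4).negF (W n r) := fun n r => (hM n).negEq r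
  have himg : ∀ (n : ↥(NZ K)) (i : Fin 4), ∃ j, W n (r4 i) = r4 j ∨ W n (r4 i) = (T4).negF (r4 j) := by
    intro n i
    obtain ⟨j, h | h⟩ := (even_roots (W n (r4 i))).1
      ((par_eq h2 n.2 (hM n) _).trans ((even_roots _).2 ⟨i, Or.inl rfl⟩))
    · exact ⟨j, Or.inl h⟩
    · exact ⟨j, Or.inr (Fin.ext h)⟩
  choose π hπ using himg
  have hπm : ∀ a b i, π (a * b) i = π a (π b i) := by
    intro a b i
    have h1 := hπ (a * b) i
    rw [map_mul, Equiv.Perm.mul_apply] at h1
    have h3 := hπ a (π b i)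
    rcases hπ b i with h | h <;> rw [h] at h1 <;> (try rw [hneg] at h1) <;> rcases h3 with h3 | h3 <;>
      rw [h3] at h1 <;> (try rw [negF_negF] at h1) <;> refine (r4_unique _ _ ?_).symm <;>
      rcases h1 with h1 | h1 <;>
      first
        | exact Or.inl h1.symm
        | exact Or.inr h1.symm
        | exact Or.inl (by simpa [negF_negF] using congrArg (T4).negF h1.symm)
        | exact Or.inr (by simpa [negF_negF] using congrArg (T4).negF h1.symm)
        | exact Or.inl h1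
        | exact Or.inr h1
        | exact Or.inl (by simpa [negF_negF] using congrArg (T4).negF h1)
        | exact Or.inr (by simpa [negF_negF] using congrArg (T4).negF h1)
  have hπ1 : ∀ i, π 1 i = i := by
    intro i
    have h := hπ 1 i
    rw [map_one, Equiv.Perm.one_apply] at h
    exact (r4_unique _ _ h).symm
  let θ : ↥(NZ K) →* Equiv.Perm (Fin 4) :=
    { toFun := fun a =>
        { toFun := π a
          invFun := π a⁻¹
          left_inv := fun i => by rw [← hπm, inv_mul_cancel, hπ1]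
          right_inv := fun i => by rw [← hπm, mul_inv_cancel, hπ1] }
      map_one' := Equiv.ext hπ1
      map_mul' := fun a b => Equiv.ext (hπm a b) }
  have hk : ∀ a ∈ θ.ker, ∀ b ∈ θ.ker, W a * W b = W b * W a := by
    intro a ha b hb
    refine det4 (mul_mem (hW a) (hW b)) (mul_mem (hW b) (hW a)) fun i => ?_
    have ea : π a i = i := DFunLike.congr_fun (MonoidHom.mem_ker.1 ha) i
    have eb : π b i = i := DFunLike.congr_fun (MonoidHom.mem_ker.1 hb) i
    have h1 := hπ a i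
    have h3 := hπ b i
    rw [ea] at h1
    rw [eb] at h3
    rw [Equiv.Perm.mul_apply, Equiv.Perm.mul_apply]
    rcases h1 with h1 | h1 <;> rcases h3 with h3 | h3 <;> simp only [h1, h3, hneg]
  have hA : ∀ a ∈ W.ker, ∀ b ∈ W.ker, a * b = b * a := fun a ha b hb => by
    have hd : ∀ c ∈ W.ker, ((c : ↥(NZ K)) : GL (T4).I K) ∈ (T4).datum.diagonalSubgroup K := fun c hc =>
      mem_diag_of_mono_one hV4 (Subgroup.mem_inf.1 c.2).1 (MonoidHom.mem_ker.1 hc ▸ hM c)
    exact Subtype.ext (diag_comm hV4 (hd a ha) (hd b hb))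
  have hWk : Group.IsSolvable ↥W.ker :=
    isSolvable_of_comm fun a b => Subtype.ext (hA _ a.2 _ b.2)
  have : Group.IsSolvable ↥θ.ker := by
    let W' : ↥θ.ker →* ↥(θ.ker.map W) := W.subgroupMap θ.ker
    have : Group.IsSolvable ↥(θ.ker.map W) := isSolvable_of_comm fun a b => by
      obtain ⟨a', ha', ea⟩ := a.2
      obtain ⟨b', hb', eb⟩ := b.2
      refine Subtype.ext ?_
      rw [Subgroup.coe_mul, Subgroup.coe_mul, ← ea, ← eb]
      exact hk a' ha' b' hb'
    have : Group.IsSolvable ↥W'.ker := by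
      let inc : ↥W'.ker →* ↥W.ker :=
        { toFun := fun x => ⟨x.1.1, congrArg Subtype.val (MonoidHom.mem_ker.1 x.2)⟩
          map_one' := rfl
          map_mul' := fun _ _ => rfl }
      exact Group.isSolvable_of_isSolvable_injective (f := inc) fun x y h =>
        Subtype.ext (Subtype.ext (congrArg (fun z : ↥W.ker => (z : ↥(NZ K))) h))
    exact solvable_of_ker_le_range W'.ker.subtype W' (by rw [Subgroup.range_subtype])
  have := CfsgLib.NumberTheory.SwapClosure.isSolvable_perm_fin_four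
  exact solvable_of_ker_le_range θ.ker.subtype θ (by rw [Subgroup.range_subtype])

theorem centralizer_le (h2 : (2 : K) ≠ 0) {g : GL (T4).I K} (hg : g ∈ (T4).datum.group K)
    (hz : Commute (zeta : GL (T4).I K) g) : g ∈ M4 K ⊔ NZ K := by
  set ζ : GL (T4).I K := zeta with hζ
  obtain ⟨b, hb, n, hn, w, hw, hm, u, hu, e⟩ := exists_canonical hV4 hC4 hg
  set ζ' : GL (T4).I K := n * ζ * n⁻¹ with hζ'
  have hd : ζ ∈ (T4).datum.diagonalSubgroup K := zeta_diag
  have hd' : ζ' ∈ (T4).datum.diagonalSubgroup K := conj_diag hV4 hn hd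
  have hbB : ζ * b * ζ'⁻¹ ∈ (T4).datum.borelSubgroup K :=
    mul_mem (mul_mem (Subgroup.mem_sup_right hd) hb) (inv_mem (Subgroup.mem_sup_right hd'))
  have huU : ζ * u * ζ⁻¹ ∈ (T4).rootGen K ((T4).negSet w) :=
    (Subgroup.mem_normalizer_iff.mp (diag_le_normalizer hV4 _ hd) u).mp hu
  have he : ζ * b * ζ'⁻¹ * n * (ζ * u * ζ⁻¹) = b * n * u := by
    rw [← e]
    calc ζ * b * ζ'⁻¹ * n * (ζ * u * ζ⁻¹) = ζ * (b * n * u) * ζ⁻¹ := by rw [hζ']; group
      _ = g := by rw [← e, hz.eq, mul_inv_cancel_right]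
  obtain ⟨hbb, huu⟩ := (canonical_unique hV4 hC4 hbB hb hn hn hm huU hu he).2 hm rfl
  obtain ⟨u0, hu0, k0, hk0, rfl⟩ := (mem_borel_iff hV4).mp hb
  have hu0' : ζ * u0 * ζ⁻¹ ∈ (T4).datum.posUnipotent K := by
    rw [posUnipotent_rootGen hV4] at hu0 ⊢
    exact (Subgroup.mem_normalizer_iff.mp (diag_le_normalizer hV4 _ hd) u0).mp hu0
  have h1 : u0⁻¹ * (ζ * u0 * ζ⁻¹) = 1 := by
    rw [← Subgroup.mem_bot, ← pos_inf_diag (T := T4) (F := K) hV4]
    refine Subgroup.mem_inf.mpr ⟨mul_mem (inv_mem hu0) hu0', ?_⟩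
    have e4 : u0⁻¹ * (ζ * u0 * ζ⁻¹) = k0 * (ζ * k0 * ζ'⁻¹)⁻¹ := by
      rw [eq_mul_inv_iff_mul_eq, ← mul_right_inj u0]
      calc u0 * (u0⁻¹ * (ζ * u0 * ζ⁻¹) * (ζ * k0 * ζ'⁻¹)) = ζ * (u0 * k0) * ζ'⁻¹ := by group
        _ = u0 * k0 := hbb
    rw [e4]
    exact mul_mem hk0 (inv_mem (mul_mem (mul_mem hd hk0) (inv_mem hd')))
  rw [inv_mul_eq_one] at h1
  have hu0z : Commute ζ u0 := mul_inv_eq_iff_eq_mul.mp h1.symm
  have huz : Commute ζ u := mul_inv_eq_iff_eq_mul.mp huu
  have hkz : Commute ζ k0 := diag_comm hV4 hd hk0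
  have hnz : Commute ζ n := by
    have h3 : n = k0⁻¹ * u0⁻¹ * g * u⁻¹ := by rw [e]; group
    rw [h3]
    exact (((hkz.inv_right).mul_right hu0z.inv_right).mul_right hz).mul_right huz.inv_right
  have hU : ∀ x ∈ (T4).rootGen K (fun r => (T4).half ≤ r), Commute ζ x → x ∈ M4 K :=
    fun x hx => fixed_mem4 h2 (T4).half (T4).half (Nat.two_mul _).symm le_rfl x hx
  rw [e]
  refine mul_mem (mul_mem (mul_mem (Subgroup.mem_sup_left (hU u0 ?_ hu0z)) (Subgroup.mem_sup_right ?_))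
    (Subgroup.mem_sup_right ?_)) (Subgroup.mem_sup_left (hU u ?_ huz))
  · rwa [← posUnipotent_rootGen hV4]
  · exact Subgroup.mem_inf.2 ⟨diag_le_N hV4 hk0, Subgroup.mem_centralizer_singleton_iff.2 hkz.eq.symm⟩
  · exact Subgroup.mem_inf.2 ⟨hn, Subgroup.mem_centralizer_singleton_iff.2 hnz.eq.symm⟩
  · exact rootGen_mono (fun r _ h => h.2.1) hu

/-- A perfect group mapped into the centralizer of the involution lands in the four SL₂. -/
theorem perfect_le (h2 : (2 : K) ≠ 0) {H : Type*} [Group H] (hH : commutator H = ⊤)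
    (χ : H →* GL (T4).I K) (hg : ∀ h, χ h ∈ (T4).datum.group K)
    (hz : ∀ h, Commute (zeta : GL (T4).I K) (χ h)) : ∀ h, χ h ∈ (pr4 (K := K)).range := by
  set X := M4 K ⊔ NZ K
  have hnorm : X ≤ Subgroup.normalizer ((M4 K : Subgroup (GL (T4).I K)) : Set _) :=
    sup_le Subgroup.le_normalizer (NZ_normalizes h2)
  have hMn : ((M4 K).subgroupOf X).Normal := (Subgroup.normal_subgroupOf_iff_le_normalizer le_sup_left).2 hnorm
  let ρ : ↥(NZ K) →* ↥X ⧸ (M4 K).subgroupOf X :=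
    (QuotientGroup.mk' _).comp (Subgroup.inclusion le_sup_right)
  have hρ : Function.Surjective ρ := by
    intro y
    obtain ⟨⟨x, hx⟩, rfl⟩ := QuotientGroup.mk'_surjective _ y
    have hx' : x ∈ ((NZ K : Subgroup (GL (T4).I K)) : Set (GL (T4).I K)) * (M4 K : Set (GL (T4).I K)) := by
      rw [← Subgroup.coe_mul_of_left_le_normalizer_right _ _ (NZ_normalizes h2), SetLike.mem_coe, sup_comm]
      exact hx
    obtain ⟨n, hn, m, hm, rfl⟩ := hx'
    refine ⟨⟨n, hn⟩, ?_⟩
    refine (QuotientGroup.eq).2 ?_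
    show (n⁻¹ * (n * m)) ∈ M4 K
    rwa [inv_mul_cancel_left]
  have := NZ_solvable (K := K) h2
  have hsol : Group.IsSolvable (↥X ⧸ (M4 K).subgroupOf X) := solvable_of_surjective hρ
  let ψ : H →* ↥X ⧸ (M4 K).subgroupOf X :=
    (QuotientGroup.mk' _).comp (χ.codRestrict X fun h => centralizer_le h2 (hg h) (hz h))
  intro h
  refine M4_le ?_
  have htop : ∀ n, derivedSeries H n = ⊤ := by
    intro n
    induction n with
    | zero => rfl
    | succ n ih => rw [derivedSeries_succ, ih, ← commutator_def, hH]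
  obtain ⟨n, hn⟩ := hsol.solvable
  have hmem : ψ h ∈ derivedSeries (↥X ⧸ (M4 K).subgroupOf X) n :=
    map_derivedSeries_le_derivedSeries ψ n ⟨h, htop n ▸ Subgroup.mem_top h, rfl⟩
  rw [hn, Subgroup.mem_bot] at hmem
  exact (QuotientGroup.eq_one_iff (N := (M4 K).subgroupOf X) _).1 hmem

end CfsgLib.KnownA.D4Sec
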