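import Cfsg.Agent.Lib.KnownA.D4Sec.Fold
import Cfsg.Agent.Lib.Chevalley.G2InvClass

/-!
The group of type G₂ inside ³D₄ carries its Sylow two- and five-subgroups.
-/

set_option autoImplicit false
set_option maxRecDepth 20000

namespace CfsgLib.KnownA.D4Sec

open CfsgLib.Chevalley CfsgLib.Chevalley.Tbl
open CfsgLib.KnownB.FieldAut (mapGL mapGL_inj exists_fixed_field)

local notation "T4" => Data.D4.tbl

variable {K : Type*} [Field K] [Finite K] {q : ℕ} (hq : IsPrimePow q) (hK : Nat.card K = q ^ 3)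

/-- The group ³D₄ as fixed points. -/
abbrev GD : Type _ := ↥(Twist.D4.setup hq hK).S.fix

theorem exists_embedding : ∃ (F : Type) (_ : Field F) (_ : Fintype F) (κ : F →+* K)
    (j : G2Inv.GG F →* GD hq hK), Fintype.card F = q ∧ Function.Injective j ∧
      ∀ x, ((j x : GD hq hK) : GL (T4).I K) = mapGL T4 κ (ι x) := by
  classical
  have := Fintype.ofFinite K
  obtain ⟨F, hF, hFi, κ, hfix, -⟩ := exists_fixed_field (Twist.D4.fq hq hK)
  have hcard : Fintype.card F = q := by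
    have h1 : Nat.card {t : K // (Twist.D4.fq hq hK) t = t} = q := by
      have h := Twist.D4.hcard hq hK 0 (show (0 : ℕ) < 2 by norm_num)
      exact h.trans (pow_one q)
    rw [← Nat.card_eq_fintype_card, ← h1]
    exact Nat.card_congr ((Equiv.ofInjective κ κ.injective).trans
      (Equiv.subtypeEquivRight fun t => (hfix t).symm))
  have hmem : ∀ x : G2Inv.GG F, mapGL T4 κ (ι x) ∈ (Twist.D4.setup hq hK).S.fix := fun x => by
    rw [← Twist.D4.G_eq hq hK]
    exact genSub_map (fold F) (Twist.D4.setup hq hK) κ rfl rfl (fun t => (hfix _).2 ⟨t, rfl⟩)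
      ⟨_, ι_mem_G x, rfl⟩
  exact ⟨F, hF, hFi, κ, ((mapGL T4 κ).comp ι).codRestrict _ hmem, hcard,
    fun a b h => ι_injective (mapGL_inj κ (congrArg Subtype.val h)), fun _ => rfl⟩

theorem card_GD : Nat.card (GD hq hK) = q ^ 12 * (q ^ 2 - 1) * (q ^ 6 - 1) * (q ^ 8 + q ^ 4 + 1) := by
  have h := Twist.D4.card_eq hq hK
  rwa [Twist.D4.G_eq hq hK] at h

variable {hq hK}

theorem exists_conj_range {F : Type} [Field F] [Fintype F] (hF : Fintype.card F = q)
    (j : G2Inv.GG F →* GD hq hK) (hj : Function.Injective j) (ℓ : ℕ) [Fact ℓ.Prime]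
    (hℓq : ¬ ℓ ∣ q) (hℓ : ¬ ℓ ∣ q ^ 8 + q ^ 4 + 1) (P : Subgroup (GD hq hK)) (hP : IsPGroup ℓ P) :
    ∃ c : GD hq hK, ∀ g ∈ P, c * g * c⁻¹ ∈ j.range := by
  classical
  obtain ⟨S⟩ : Nonempty (Sylow ℓ (G2Inv.GG F)) := inferInstance
  have hq1 : 1 < q := hF ▸ Fintype.one_lt_card
  have h6 : q ^ 6 - 1 ≠ 0 := by have := Nat.one_lt_pow (n := 6) (by norm_num) hq1; omega
  have h2 : q ^ 2 - 1 ≠ 0 := by have := Nat.one_lt_pow (n := 2) (by norm_num) hq1; omega
  have hpow : ∀ n, (q ^ n).factorization ℓ = 0 := fun n =>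
    Nat.factorization_eq_zero_of_not_dvd fun h => hℓq ((Fact.out : ℓ.Prime).dvd_of_dvd_pow h)
  have hfac : (Nat.card (G2Inv.GG F)).factorization ℓ = (Nat.card (GD hq hK)).factorization ℓ := by
    rw [G2Inv.card_GG, hF, card_GD hq hK,
      Nat.factorization_mul (Nat.mul_ne_zero (by positivity) h2) h6,
      Nat.factorization_mul (by positivity) h2,
      Nat.factorization_mul (Nat.mul_ne_zero (Nat.mul_ne_zero (by positivity) h2) h6) (by positivity),
      Nat.factorization_mul (Nat.mul_ne_zero (by positivity) h2) h6,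
      Nat.factorization_mul (by positivity) h2]
    simp only [Finsupp.add_apply, hpow, Nat.factorization_eq_zero_of_not_dvd hℓ]
    omega
  have hcard : Nat.card ((S : Subgroup (G2Inv.GG F)).map j) =
      ℓ ^ (Nat.card (GD hq hK)).factorization ℓ := by
    rw [Subgroup.card_map_of_injective hj, S.card_eq_multiplicity, hfac]
  let S' : Sylow ℓ (GD hq hK) := Sylow.ofCard _ hcard
  obtain ⟨Q, hQ⟩ := hP.exists_le_sylow
  obtain ⟨c, rfl⟩ := MulAction.exists_smul_eq (GD hq hK) S' Q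
  refine ⟨c⁻¹, fun g hg => ?_⟩
  have := hQ hg
  rw [Sylow.coe_subgroup_smul, Subgroup.mem_pointwise_smul_iff_inv_smul_mem] at this
  obtain ⟨x, -, hx⟩ := this
  exact ⟨x, by simpa [MulAut.conj_apply] using hx⟩

end CfsgLib.KnownA.D4Sec
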