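import Cfsg.Agent.Lib.KnownA.D4Sec.Cent
import Cfsg.Agent.Lib.KnownA.D4Sec.Embed
import Cfsg.Agent.Lib.Chevalley.G2AltSection.Eight

/-!
No alternating section of degree eight in ³D₄ in odd characteristic.
-/

set_option autoImplicit false
set_option maxHeartbeats 2000000
set_option maxRecDepth 20000

namespace CfsgLib.KnownA.D4Sec

open CfsgLib.Chevalley CfsgLib.Chevalley.Tbl
open CfsgLib.KnownB.FieldAut (mapGL mapGL_inj map_torus)
open scoped MatrixGroups commutatorElement

local notation "T4" => Data.D4.tbl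
local notation "T2" => Data.G2.tbl

/-- A subgroup of a product with a simple image has such a subgroup in one factor. -/
theorem peel {A B Q : Type*} [Group A] [Group B] [Group Q] [IsSimpleGroup Q] (S : Subgroup (A × B))
    (Φ : S →* Q) (hΦ : Function.Surjective Φ) :
    (∃ (R : Subgroup A) (ψ : R →* Q), Function.Surjective ψ) ∨
      ∃ (R : Subgroup B) (ψ : R →* Q), Function.Surjective ψ := by
  let f : S →* A := (MonoidHom.fst _ _).comp S.subtype
  have hn : (f.ker.map Φ).Normal := Subgroup.Normal.map (MonoidHom.normal_ker f) Φ hΦ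
  rcases hn.eq_bot_or_eq_top with h | h
  · refine Or.inl ⟨f.range, f.rangeRestrict.liftOfSurjective f.rangeRestrict_surjective ⟨Φ, ?_⟩, fun v => ?_⟩
    · rw [MonoidHom.ker_rangeRestrict]; exact (Subgroup.map_eq_bot_iff _).1 h
    · obtain ⟨m, rfl⟩ := hΦ v
      exact ⟨f.rangeRestrict m, MonoidHom.liftOfRightInverse_comp_apply _ _ _ _ m⟩
  · let R : Subgroup B := S.comap (MonoidHom.inr A B)
    refine Or.inr ⟨R, Φ.comp ((MonoidHom.inr A B).subgroupComap S), fun v => ?_⟩
    obtain ⟨m, hm, rfl⟩ := h.ge (Subgroup.mem_top v)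
    have h1 : (m : A × B).1 = 1 := hm
    have hmem : (m : A × B).2 ∈ R := by
      show ((1 : A), (m : A × B).2) ∈ S
      rw [← h1]; exact m.2
    refine ⟨⟨_, hmem⟩, congrArg Φ (Subtype.ext ?_)⟩
    exact Prod.ext h1.symm rfl

variable {K : Type*} [Field K] [Finite K] {q : ℕ} (hq : IsPrimePow q) (hK : Nat.card K = q ^ 3)

theorem exists_involution (hodd : Odd q) : ∃ z' : GD hq hK, ((z' : GD hq hK) : GL (T4).I K) = zeta ∧
    (∀ g : GD hq hK, g * g = 1 → g ≠ 1 → IsConj z' g) ∧
    ∀ E : Subgroup (GD hq hK), (∀ g ∈ E, g * g = 1) → Nat.card E ≤ 8 := by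
  classical
  have : Fact (Nat.Prime 2) := ⟨Nat.prime_two⟩
  obtain ⟨F, _, _, κ, j, hF, hj, hjv⟩ := exists_embedding hq hK
  have hFo : Odd (Fintype.card F) := hF.symm ▸ hodd
  have h2q : ¬ 2 ∣ q := hodd.not_two_dvd_nat
  have h3 : ¬ 2 ∣ q ^ 8 + q ^ 4 + 1 :=
    (((hodd.pow (n := 8)).add_odd (hodd.pow (n := 4))).add_one).not_two_dvd_nat
  refine ⟨j G2Inv.z, ?_, fun g hg hne => ?_, fun E hE => ?_⟩
  · have hp : ((G2Inv.z : G2Inv.GG F) : GL (T2).I F) =
        torusHom T2 F (Pi.mulSingle (⟨0, by decide⟩ : Fin (T2).rank) (-1 : Fˣ)) := by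
      rw [G2Inv.coe_z, torusHom_single Data.G2.valid]
      rfl
    rw [hjv, ι_torus _ hp, map_torus, zeta]
    congr 1
    have key : ∀ (i : Fin 4), Units.map (κ : F →* K) ((![(Pi.mulSingle (⟨0, by decide⟩ : Fin (T2).rank) (-1 : Fˣ) : Fin (T2).rank → Fˣ) ⟨0, by decide⟩,
        (Pi.mulSingle (⟨0, by decide⟩ : Fin (T2).rank) (-1 : Fˣ) : Fin (T2).rank → Fˣ) ⟨1, by decide⟩,
        (Pi.mulSingle (⟨0, by decide⟩ : Fin (T2).rank) (-1 : Fˣ) : Fin (T2).rank → Fˣ) ⟨0, by decide⟩,
        (Pi.mulSingle (⟨0, by decide⟩ : Fin (T2).rank) (-1 : Fˣ) : Fin (T2).rank → Fˣ) ⟨0, by decide⟩] : Fin 4 → Fˣ) i) =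
        (![-1, 1, -1, -1] : Fin 4 → Kˣ) i := by
      intro i
      apply Units.ext
      fin_cases i <;> simp
    exact funext key
  · obtain ⟨c, hc⟩ := exists_conj_range hF j hj 2 h2q h3 (Subgroup.zpowers g)
      (IsPGroup.of_card (n := 1) (by
        rw [Nat.card_zpowers, pow_one]; exact orderOf_eq_prime (by rw [pow_two, hg]) hne))
    obtain ⟨x, hx⟩ := hc g (Subgroup.mem_zpowers g)
    have hxx : x * x = 1 := hj (by
      rw [map_mul, hx, map_one]
      calc c * g * c⁻¹ * (c * g * c⁻¹) = c * (g * g) * c⁻¹ := by group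
        _ = 1 := by rw [hg]; group)
    have hx1 : x ≠ 1 := fun h => hne (by
      rw [h, map_one] at hx
      calc g = c⁻¹ * (c * g * c⁻¹) * c := by group
        _ = 1 := by rw [← hx]; group)
    have := MonoidHom.map_isConj j (G2Inv.isConj_z hFo hxx hx1)
    rw [hx] at this
    exact this.trans (isConj_iff.mpr ⟨c⁻¹, by group⟩)
  · obtain ⟨c, hc⟩ := exists_conj_range hF j hj 2 h2q h3 E (IsPGroup.iff_orderOf.2 fun g => by
      obtain ⟨k, -, hk⟩ := (Nat.dvd_prime_pow Nat.prime_two).mp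
        (orderOf_dvd_of_pow_eq_one (show g ^ 2 ^ 1 = 1 from Subtype.ext (by
          rw [pow_one, pow_two]; exact hE g g.2)))
      exact ⟨k, hk⟩)
    have hle : E.map (MulAut.conj c).toMonoidHom ≤ j.range := by
      rintro _ ⟨g, hg, rfl⟩; exact hc g hg
    rw [← Subgroup.card_map_of_injective (K := E) (f := (MulAut.conj c).toMonoidHom) (MulAut.conj c).injective,
      ← Subgroup.map_comap_eq_self hle, Subgroup.card_map_of_injective hj]
    refine G2AltSection.two_rank hFo _ ?_
    rintro x ⟨g, hg, hx⟩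
    refine hj ?_
    rw [map_mul, map_one, ← hx, ← map_mul, hE g hg, map_one]

variable {hq hK}

/-- A group with a simple quotient of a large size containing an elementary abelian group of order sixteen. -/
theorem no_big_section (hodd : Odd q) {Q : Type*} [Group Q] [IsSimpleGroup Q]
    (hna : ∃ a b : Q, a * b ≠ b * a) (hbig : 5040 < Nat.card Q) (V : Subgroup Q) (hV : ∀ v ∈ V, v * v = 1)
    (hVc : Nat.card V = 16) (H : Subgroup (GD hq hK)) (φ : H →* Q) (hφ : Function.Surjective φ) : False := by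
  have hFin := Fintype.ofFinite K
  obtain ⟨z', hz', hone, htwo⟩ := exists_involution hq hK hodd
  have h2 : (2 : K) ≠ 0 := G2Inv.odd_char (by
    rw [← Nat.card_eq_fintype_card, hK]; exact hodd.pow)
  classical
  induction hn : Nat.card H using Nat.strong_induction_on generalizing H with
  | _ n IH =>
  subst hn
  have : Fact (Nat.Prime 2) := ⟨Nat.prime_two⟩
  have : Finite Q := Finite.of_surjective φ hφ
  have hmin : ∀ M : Subgroup H, M.map φ = ⊤ → M = ⊤ := by
    intro M hM
    by_contra hne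
    let ι := Subgroup.equivMapOfInjective M H.subtype Subtype.val_injective
    refine IH _ ?_ (M.map H.subtype) ((φ.comp M.subtype).comp ι.symm.toMonoidHom) ?_ rfl
    · rw [← Nat.card_congr ι.toEquiv]
      exact lt_of_le_of_ne M.card_le_card_group fun h => hne (Subgroup.eq_top_of_card_eq M h)
    · intro v
      obtain ⟨m, hm, rfl⟩ := hM.ge (Subgroup.mem_top v)
      exact ⟨ι ⟨m, hm⟩, by simp⟩
  set N := φ.ker with hN
  let P : Sylow 2 N := default
  set PH := (P : Subgroup N).map N.subtype with hPH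
  have hPn : PH.Normal := by
    rw [← Subgroup.normalizer_eq_top_iff]
    refine hmin _ ?_
    have h := congrArg (Subgroup.map φ) (Sylow.normalizer_sup_eq_top P)
    rw [Subgroup.map_sup, Subgroup.map_top_of_surjective φ hφ, (Subgroup.map_eq_bot_iff N).2 le_rfl,
      sup_bot_eq] at h
    exact h
  have htoGG : ∀ (B : Subgroup H), (∀ g ∈ B, g * g = 1) → Nat.card B ≤ 8 := fun B hB => by
    rw [← Subgroup.card_map_of_injective (f := H.subtype) (K := B) H.subtype_injective]
    refine htwo _ ?_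
    rintro g ⟨u, hu, rfl⟩
    rw [← map_mul, hB u hu, map_one]
  by_cases hP1 : PH = ⊥
  · have hodd : ¬ 2 ∣ Nat.card N := by
      intro hd
      refine P.ne_bot_of_dvd_card hd ?_
      exact (Subgroup.map_eq_bot_iff_of_injective _ Subtype.val_injective).1 hP1
    let ψ : V.comap φ →* V := φ.subgroupComap V
    have hψ : Function.Surjective ψ := MonoidHom.subgroupComap_surjective_of_surjective φ V hφ
    let S : Sylow 2 (V.comap φ) := default
    have hV2 : IsPGroup 2 V := IsPGroup.of_card (n := 4) (by rw [hVc]; norm_num)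
    have h1 : ((S.mapSurjective hψ : Sylow 2 V) : Subgroup V) = ⊤ :=
      (S.mapSurjective hψ).3 (hV2.to_subgroup _) le_top |>.symm
    let θ : (S : Subgroup (V.comap φ)) →* V := ψ.comp (S : Subgroup (V.comap φ)).subtype
    have hθs : Function.Surjective θ := fun v => by
      obtain ⟨s, hs, rfl⟩ := (show (S : Subgroup (V.comap φ)).map ψ = ⊤ by simpa using h1).ge (Subgroup.mem_top v)
      exact ⟨⟨s, hs⟩, rfl⟩
    have hθi : Function.Injective θ := by
      refine (injective_iff_map_eq_one θ).2 fun s hs => ?_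
      have hk : (((s : V.comap φ)) : H) ∈ N := by
        rw [hN, MonoidHom.mem_ker]; exact congrArg Subtype.val hs
      obtain ⟨k, hk'⟩ := IsPGroup.iff_orderOf.1 S.2 s
      have h3 : orderOf (((s : V.comap φ)) : H) = 2 ^ k := by rw [Subgroup.orderOf_coe, Subgroup.orderOf_coe, hk']
      have h4 : 2 ^ k ∣ Nat.card N := by
        rw [← h3, ← Subgroup.orderOf_mk (((s : V.comap φ)) : H) hk]
        exact orderOf_dvd_natCard _
      obtain rfl : k = 0 := by
        by_contra hk0
        exact hodd ((dvd_pow_self 2 hk0).trans h4)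
      exact orderOf_eq_one_iff.1 (hk'.trans (pow_zero 2))
    have h8 := htoGG ((S : Subgroup (V.comap φ)).map (V.comap φ).subtype) (by
      rintro g ⟨u, hu, rfl⟩
      have h5 : (⟨u, hu⟩ : (S : Subgroup (V.comap φ))) * ⟨u, hu⟩ = 1 :=
        hθi (by rw [map_mul, map_one]; exact Subtype.ext (hV _ (θ ⟨u, hu⟩).2))
      rw [← map_mul]
      exact (congrArg (fun w : (S : Subgroup (V.comap φ)) => (V.comap φ).subtype (w : V.comap φ)) h5).trans
        (map_one _))
    rw [Subgroup.card_map_of_injective Subtype.val_injective, Nat.card_eq_of_bijective θ ⟨hθi, hθs⟩, hVc] at h8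
    omega
  -- a normal two-subgroup: its central involutions
  let Ω : Subgroup H :=
    { carrier := {x | x ∈ PH ∧ (∀ w ∈ PH, w * x = x * w) ∧ x * x = 1}
      one_mem' := ⟨one_mem _, fun w _ => by simp, one_mul 1⟩
      mul_mem' := by
        rintro a b ⟨ha, hac, ha2⟩ ⟨hb, hbc, hb2⟩
        refine ⟨mul_mem ha hb, fun w hw => by rw [← mul_assoc, hac w hw, mul_assoc, hbc w hw, mul_assoc], ?_⟩
        rw [mul_assoc, ← mul_assoc b a b, hac b hb, mul_assoc a b b, hb2, mul_one, ha2]
      inv_mem' := by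
        rintro a ⟨ha, hac, ha2⟩
        rw [inv_eq_of_mul_eq_one_right ha2]
        exact ⟨ha, hac, ha2⟩ }
  have hΩn : Ω.Normal := ⟨fun x hx g => by
    refine ⟨hPn.conj_mem x hx.1 g, fun w hw => ?_, ?_⟩
    · have h := hx.2.1 (g⁻¹ * w * g) (by simpa using hPn.conj_mem w hw g⁻¹)
      calc w * (g * x * g⁻¹) = g * ((g⁻¹ * w * g) * x) * g⁻¹ := by group
        _ = g * (x * (g⁻¹ * w * g)) * g⁻¹ := by rw [h]
        _ = g * x * g⁻¹ * w := by group
    · calc g * x * g⁻¹ * (g * x * g⁻¹) = g * (x * x) * g⁻¹ := by group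
        _ = 1 := by rw [hx.2.2]; group⟩
  have hPH2 : IsPGroup 2 PH := P.2.map _
  obtain ⟨z0, hz0, hz01⟩ : ∃ x ∈ Ω, x ≠ 1 := by
    have : Nontrivial PH := (Subgroup.nontrivial_iff_ne_bot _).2 hP1
    have hcn := hPH2.center_nontrivial
    have hd : 2 ∣ Nat.card (Subgroup.center PH) := by
      obtain ⟨k, hk, hk'⟩ := (hPH2.to_subgroup (Subgroup.center PH)).nontrivial_iff_card.1 hcn
      rw [hk']; exact dvd_pow_self 2 hk.ne'
    obtain ⟨⟨⟨x, hxP⟩, hxc⟩, hxo⟩ := exists_prime_orderOf_dvd_card' 2 hd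
    rw [← Subgroup.orderOf_coe, ← Subgroup.orderOf_coe] at hxo
    refine ⟨x, ⟨hxP, fun w hw => congrArg Subtype.val (Subgroup.mem_center_iff.1 hxc ⟨w, hw⟩), ?_⟩, ?_⟩
    · rw [← pow_two]; exact hxo ▸ pow_orderOf_eq_one x
    · intro h
      have hxo' : orderOf x = 2 := hxo
      rw [h, orderOf_one] at hxo'
      omega
  have hΩ8 := htoGG Ω fun g hg => hg.2.2
  let X := {x : Ω // x ≠ 1}
  let act : H →* Equiv.Perm X :=
    { toFun := fun g => Equiv.subtypeEquiv (MulAut.conjNormal g).toEquiv (fun x => by simp)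
      map_one' := by ext x; simp
      map_mul' := fun g g' => by ext x; simp [mul_assoc] }
  have hker : act.ker = ⊤ := by
    have hn : (act.ker.map φ).Normal := Subgroup.Normal.map (MonoidHom.normal_ker act) φ hφ
    rcases hn.eq_bot_or_eq_top with h | h
    · exfalso
      have h1 : act.ker ≤ N := (Subgroup.map_eq_bot_iff _).1 h
      have h2' : Nat.card Q ≤ Nat.card act.range := by
        rw [← Subgroup.index_ker, ← Subgroup.card_top (G := Q), ← MonoidHom.range_eq_top.2 hφ,
          ← Subgroup.index_ker]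
        exact Nat.le_of_dvd (Nat.pos_of_ne_zero Subgroup.index_ne_zero_of_finite) (Subgroup.index_dvd_of_le h1)
      have h3 : Nat.card act.range ≤ Nat.card (Equiv.Perm X) := Subgroup.card_le_card_group _
      have := Fintype.ofFinite Ω
      have h4 : Fintype.card X ≤ 7 := by
        rw [Fintype.card_subtype_compl, Fintype.card_subtype_eq, ← Nat.card_eq_fintype_card]
        omega
      rw [Nat.card_perm, Nat.card_eq_fintype_card (α := X)] at h3
      have := Nat.factorial_le h4
      norm_num [Nat.factorial] at this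
      omega
    · exact hmin _ h
  have hz0c : ∀ g : H, g * z0 = z0 * g := fun g => by
    have h1 : g ∈ act.ker := hker ▸ Subgroup.mem_top g
    have h3 := congrArg (fun e : Equiv.Perm X => (((e ⟨⟨z0, hz0⟩, fun h => hz01 (congrArg Subtype.val h)⟩ : X) : Ω) : H))
      (MonoidHom.mem_ker.1 h1)
    simp [act] at h3
    exact mul_inv_eq_iff_eq_mul.1 h3
  have hzH2 : (z0 : GD hq hK) * (z0 : GD hq hK) = 1 := by rw [← Subgroup.coe_mul, hz0.2.2, Subgroup.coe_one]
  obtain ⟨c, hc⟩ := isConj_iff.1 (hone _ hzH2 (fun h => hz01 (Subtype.ext h))).symm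
  let χ : H →* GD hq hK := (MulAut.conj c).toMonoidHom.comp H.subtype
  have hχi : Function.Injective χ := (MulAut.conj c).injective.comp Subtype.val_injective
  have hperf : commutator H = ⊤ := by
    refine hmin _ ?_
    rw [commutator_def, Subgroup.map_commutator, Subgroup.map_top_of_surjective φ hφ]
    rcases (inferInstance : (⁅(⊤ : Subgroup Q), (⊤ : Subgroup Q)⁆ : Subgroup Q).Normal).eq_bot_or_eq_top with h | h
    · obtain ⟨a, b, hab⟩ := hna
      exact absurd (Subgroup.commutator_eq_bot_iff_le_centralizer.1 h (Subgroup.mem_top a) b (Subgroup.mem_top b)).symm hab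
    · exact h
  let χ' : H →* GL (T4).I K := (Twist.D4.setup hq hK).S.fix.subtype.comp χ
  have hχ'i : Function.Injective χ' := Subtype.val_injective.comp hχi
  have hmem := perfect_le h2 hperf χ' (fun h => ((Twist.mem_fix_iff _).mp (χ h).2).1) fun h => by
    have h1 : Commute z' (χ h) := by
      rw [show z' = χ z0 from hc.symm]
      exact Commute.map (hz0c h).symm χ
    have h3 := congrArg (fun w : GD hq hK => (w : GL (T4).I K)) h1.eq
    simp only [Subgroup.coe_mul, hz'] at h3
    exact h3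
  -- pull back to the product of the four copies
  set S4 := (χ'.range).comap (pr4 (K := K))
  let Φ : S4 →* Q := φ.comp ((MonoidHom.ofInjective hχ'i).symm.toMonoidHom.comp
    ((pr4 (K := K)).subgroupComap χ'.range))
  have hΦ : Function.Surjective Φ := by
    intro v
    obtain ⟨h, rfl⟩ := hφ v
    obtain ⟨x, hx⟩ := hmem h
    have hm : x ∈ S4 := ⟨h, hx.symm⟩
    refine ⟨⟨x, hm⟩, congrArg φ ?_⟩
    rw [MonoidHom.comp_apply, MulEquiv.coe_toMonoidHom, MulEquiv.symm_apply_eq]
    exact Subtype.ext hx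
  have one : ∀ (R : Subgroup SL(2, K)) (ψ : R →* Q), Function.Surjective ψ → False := fun R ψ hψ =>
    G2AltSection.sl2_no16 h2 R ψ hψ V hV hVc
  rcases peel S4 Φ hΦ with ⟨R, ψ, hψ⟩ | ⟨R, ψ, hψ⟩
  · exact one R ψ hψ
  rcases peel R ψ hψ with ⟨R', ψ', hψ'⟩ | ⟨R', ψ', hψ'⟩
  · exact one R' ψ' hψ'
  rcases peel R' ψ' hψ' with ⟨R'', ψ'', hψ''⟩ | ⟨R'', ψ'', hψ''⟩
  · exact one R'' ψ'' hψ''
  · exact one R'' ψ'' hψ''

end CfsgLib.KnownA.D4Sec
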