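import Cfsg.Agent.Lib.KnownA.D4Sec.Embed
import Cfsg.Agent.Lib.Chevalley.G2AltSection.Five

/-!
In ³D₄(q), characteristic other than five, no element of order five is mapped to its square in a
section.
-/

set_option autoImplicit false
set_option maxRecDepth 20000

namespace CfsgLib.KnownA.D4Sec

open CfsgLib.Chevalley CfsgLib.Chevalley.Tbl
open CfsgLib.Chevalley.CoxeterTorus
open CfsgLib.KnownB.FieldAut (mapGL mapGL_inj map_group map_torus)

local notation "T4" => Data.D4.tbl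
local notation "T2" => Data.G2.tbl

/-- From abelian five-subgroups, a five-element conjugate to a power acting as squaring. -/
theorem exists_fused {G : Type*} [Group G] [Finite G]
    (hcomm : ∀ P : Subgroup G, IsPGroup 5 P → ∀ a ∈ P, ∀ b ∈ P, a * b = b * a)
    (H : Subgroup G) {Q : Type*} [Group Q] (φ : H →* Q) (hφ : Function.Surjective φ) {σ τ : Q}
    (hσ : orderOf σ = 5) (hτ : τ * σ * τ⁻¹ = σ ^ 2) :
    ∃ g h : G, orderOf g = 5 ∧ h * g * h⁻¹ = g ^ 2 := by
  classical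
  have : Fact (Nat.Prime 5) := ⟨by norm_num⟩
  have : Finite Q := Finite.of_surjective φ hφ
  obtain ⟨x0, hx0⟩ := hφ σ
  obtain ⟨y, hy⟩ := hφ τ
  set c := orderOf x0 / 5 ^ (orderOf x0).factorization 5
  set x := x0 ^ c with hxdef
  have hc5 : ¬ 5 ∣ c := Nat.not_dvd_ordCompl (by norm_num) (orderOf_pos x0).ne'
  have hxσ : φ x = σ ^ c := by rw [hxdef, map_pow, hx0]
  have ho : orderOf (φ x) = 5 := by
    rw [hxσ, Nat.Coprime.orderOf_pow (by rw [hσ]; exact (Nat.Prime.coprime_iff_not_dvd (by norm_num)).2 hc5), hσ]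
  have hxp : IsPGroup 5 (Subgroup.zpowers x) := by
    refine IsPGroup.of_card (n := (orderOf x0).factorization 5) ?_
    rw [Nat.card_zpowers, hxdef, orderOf_pow' x0 (fun h => hc5 (by rw [h]; exact dvd_zero 5)),
      Nat.gcd_eq_right (Nat.div_dvd_of_dvd (Nat.ordProj_dvd _ _)),
      Nat.div_div_self (Nat.ordProj_dvd _ _) (orderOf_pos x0).ne']
  have hτσ : φ y * φ x * (φ y)⁻¹ = φ x ^ 2 := by
    rw [hxσ, hy, ← _root_.conj_pow, hτ, ← pow_mul, ← pow_mul, mul_comm]
  set M := (Subgroup.zpowers (φ x)).comap φ with hM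
  set N0 := Subgroup.normalizer ((Subgroup.zpowers (φ x) : Subgroup Q) : Set Q)
  have hyN : φ y ∈ N0 := by
    have h1 : (Subgroup.zpowers (φ x)).map (MulAut.conj (φ y)).toMonoidHom ≤ Subgroup.zpowers (φ x) := by
      rw [MonoidHom.map_zpowers, Subgroup.zpowers_le]
      show φ y * φ x * (φ y)⁻¹ ∈ _
      rw [hτσ]
      exact pow_mem (Subgroup.mem_zpowers _) _
    have h2 : (Subgroup.zpowers (φ x)).map (MulAut.conj (φ y)).toMonoidHom = Subgroup.zpowers (φ x) := by
      refine le_antisymm h1 (Subgroup.zpowers_le.2 ?_)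
      rw [MonoidHom.map_zpowers, show (MulAut.conj (φ y)).toMonoidHom (φ x) = φ x ^ 2 from hτσ]
      refine Subgroup.mem_zpowers_iff.2 ⟨3, ?_⟩
      have h5 : φ x ^ 5 = 1 := ho ▸ pow_orderOf_eq_one (φ x)
      rw [show (3 : ℤ) = ((3 : ℕ) : ℤ) from rfl, zpow_natCast, ← pow_mul, pow_succ, h5, one_mul]
    refine Subgroup.mem_normalizer_iff.2 fun z => ⟨fun hz => ?_, fun hz => ?_⟩
    · exact h1 ⟨z, hz, rfl⟩
    · replace hz : φ y * z * (φ y)⁻¹ ∈ Subgroup.zpowers (φ x) := hz
      rw [← h2] at hz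
      obtain ⟨z', hz', hzz⟩ := hz
      rwa [← (MulAut.conj (φ y)).injective hzz]
  set K := N0.comap φ
  have hMK : M ≤ K := Subgroup.comap_mono Subgroup.le_normalizer
  have hMn : (M.subgroupOf K).Normal := by
    refine (Subgroup.normal_subgroupOf_iff_le_normalizer hMK).2 fun z hz => ?_
    refine Subgroup.mem_normalizer_iff.2 fun w => ?_
    show φ w ∈ Subgroup.zpowers (φ x) ↔ φ (z * w * z⁻¹) ∈ Subgroup.zpowers (φ x)
    rw [map_mul, map_mul, map_inv]
    exact Subgroup.mem_normalizer_iff.1 hz (φ w)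
  let xM : M := ⟨x, Subgroup.mem_zpowers _⟩
  have hxK : x ∈ K := hMK xM.2
  have hPx : IsPGroup 5 ((Subgroup.zpowers (⟨x, hxK⟩ : K)).subgroupOf (M.subgroupOf K)) := by
    refine IsPGroup.comap_of_injective ?_ _ Subtype.val_injective
    have := hxp.comap_of_injective K.subtype Subtype.val_injective
    refine this.to_le (Subgroup.zpowers_le.2 ?_)
    exact Subgroup.mem_zpowers x
  obtain ⟨P, hP⟩ := hPx.exists_le_sylow
  have hfr := Sylow.normalizer_sup_eq_top P
  set PK := (P : Subgroup ↥(M.subgroupOf K)).map (M.subgroupOf K).subtype with hPK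
  have hyK : (⟨y, hyN⟩ : K) ∈ Subgroup.normalizer (PK : Set K) ⊔ M.subgroupOf K := by
    rw [hfr]; exact Subgroup.mem_top _
  obtain ⟨n, hn, μ, hμ, e⟩ := Subgroup.mem_sup_of_normal_right.1 hyK
  have hPK5 : IsPGroup 5 PK := P.2.map _
  have hxPK : (⟨x, hxK⟩ : K) ∈ PK :=
    ⟨⟨⟨x, hxK⟩, xM.2⟩, hP (Subgroup.mem_zpowers (⟨x, hxK⟩ : K)), rfl⟩
  have hab : ∀ a ∈ PK, ∀ b ∈ PK, a * b = b * a := by
    intro a ha b hb
    have hh := hcomm (PK.map (H.subtype.comp K.subtype)) (hPK5.map _) _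
      (Subgroup.mem_map_of_mem _ ha) _ (Subgroup.mem_map_of_mem _ hb)
    exact Subtype.ext (Subtype.ext hh)
  have hact : φ.comp K.subtype n * φ x * (φ.comp K.subtype n)⁻¹ = φ x ^ 2 := by
    obtain ⟨i, hi⟩ : φ (μ : H) ∈ Subgroup.zpowers (φ x) := hμ
    have h1 : φ y = φ (n : H) * φ x ^ i := by
      rw [show φ x ^ i = φ (μ : H) from hi, ← map_mul]
      exact congrArg φ (congrArg Subtype.val e).symm
    rw [h1] at hτσ
    rw [← hτσ]
    show φ (n : H) * φ x * (φ (n : H))⁻¹ = _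
    group
  obtain ⟨g, h, k, C, hk, hgo, hC, hcj⟩ := G2AltSection.eigen (φ.comp K.subtype) PK hPK5 hab hn hxPK ho hact
  have hgo' : orderOf (((g : H) : G)) = 5 ^ k := by
    rw [Subgroup.orderOf_coe, Subgroup.orderOf_coe]; exact hgo
  have hcj' : ((h : H) : G) * ((g : H) : G) * ((h : H) : G)⁻¹ = ((g : H) : G) ^ C := by
    simpa using congrArg (fun z : K => ((z : H) : G)) hcj
  obtain ⟨i, rfl⟩ : ∃ i, k = i + 1 := ⟨k - 1, by omega⟩
  refine ⟨((g : H) : G) ^ 5 ^ i, ((h : H) : G), ?_, ?_⟩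
  · rw [orderOf_pow' _ (by positivity), hgo', Nat.gcd_eq_right (pow_dvd_pow 5 (Nat.le_succ i)), pow_succ,
      Nat.mul_div_cancel_left _ (by positivity)]
  · rw [← _root_.conj_pow, hcj', ← pow_mul, ← pow_mul, pow_eq_pow_iff_modEq, hgo', pow_succ, mul_comm C]
    exact Nat.ModEq.mul_left' _ (show C % 5 = 2 % 5 by omega)

theorem weights_not_invariant : ∀ a b : Fin 5, (∃ u : Fin 12,
      ((a.val : ℤ) * (T2).ca 0 u.val + (b.val : ℤ) * (T2).ca 1 u.val) % 5 ≠ 0) →
    ∃ k : Fin 5,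
      ((List.range 24).filter fun s => decide (((a.val : ℤ) * (T4).ca 0 s + (b.val : ℤ) * (T4).ca 1 s +
        (a.val : ℤ) * (T4).ca 2 s + (a.val : ℤ) * (T4).ca 3 s) % 5 = k.val)).length ≠
      ((List.range 24).filter fun s => decide ((2 * ((a.val : ℤ) * (T4).ca 0 s + (b.val : ℤ) * (T4).ca 1 s +
        (a.val : ℤ) * (T4).ca 2 s + (a.val : ℤ) * (T4).ca 3 s)) % 5 = k.val)).length ∧ k.val ≠ 0 := by
  decide +kernel

/-- Conjugate elements of a linear group have the same characteristic polynomial. -/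
theorem charpoly_conj_coe {n R : Type*} [Fintype n] [DecidableEq n] [CommRing R] (G : Subgroup (GL n R))
    (g h : ↥G) : (((h * g * h⁻¹ : ↥G) : GL n R) : Matrix n n R).charpoly =
      (((g : GL n R)) : Matrix n n R).charpoly := by
  rw [Subgroup.coe_mul, Subgroup.coe_mul, Subgroup.coe_inv, Units.val_mul, Units.val_mul,
    Matrix.coe_units_inv, Matrix.charpoly_units_conj]

variable {L : Type*} [Field L]

theorem charpoly_ne (f : Fin (T2).rank → Lˣ) (hf5 : f ^ 5 = 1) (hne : torusHom T2 L f ≠ 1) :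
    ((torusHom T4 L (ext f) : GL (T4).I L) : Matrix (T4).I (T4).I L).charpoly ≠
      ((torusHom T4 L (ext f) ^ 2 : GL (T4).I L) : Matrix (T4).I (T4).I L).charpoly := by
  classical
  intro heq
  obtain ⟨i0, hi0⟩ : ∃ i, f i ≠ 1 := by
    by_contra h
    push Not at h
    exact hne (by rw [show f = 1 from funext h, map_one])
  have : Fact (Nat.Prime 5) := ⟨by norm_num⟩
  set ζ := f i0 with hζ
  have hζo : orderOf ζ = 5 := orderOf_eq_prime (p := 5) (congrFun hf5 i0) hi0
  have hprim : IsPrimitiveRoot (ζ : L) 5 := (IsPrimitiveRoot.coe_units_iff).2 (hζo ▸ IsPrimitiveRoot.orderOf ζ)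
  have hexp : ∀ i, ∃ a : Fin 5, f i = ζ ^ (a.val : ℤ) := fun i => by
    obtain ⟨a, ha, e⟩ := hprim.eq_pow_of_pow_eq_one (ξ := (f i : L))
      (by rw [← Units.val_pow_eq_pow_val, show f i ^ 5 = 1 from congrFun hf5 i, Units.val_one])
    exact ⟨⟨a, ha⟩, Units.ext (by rw [zpow_natCast, Units.val_pow_eq_pow_val]; exact e.symm)⟩
  choose e he using hexp
  have hmodz : ∀ {u v : ℤ}, ζ ^ u = ζ ^ v ↔ u % 5 = v % 5 := fun {u v} => by
    rw [zpow_eq_zpow_iff_modEq, hζo]; rfl
  set A := e ⟨0, by decide⟩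
  set B := e ⟨1, by decide⟩
  obtain ⟨k, hk, hk0⟩ := weights_not_invariant A B (by
    by_contra hall
    push Not at hall
    refine hne ?_
    rw [torusHom_eq_one_iff Data.G2.valid]
    intro u
    have h2 := hall ⟨((T2).simpF Data.G2.valid u).val, ((T2).simpF Data.G2.valid u).2⟩
    show ∏ i : Fin 2, f i ^ (T2).ca i.val ((T2).simple u.val) = 1
    rw [Fin.prod_univ_two]
    erw [he, he]
    rw [← zpow_mul, ← zpow_mul, ← _root_.zpow_add, ← zpow_zero ζ, hmodz]
    exact h2)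
  let W : ℕ → ℤ := fun s => (A.val : ℤ) * (T4).ca 0 s + (B.val : ℤ) * (T4).ca 1 s +
    (A.val : ℤ) * (T4).ca 2 s + (A.val : ℤ) * (T4).ca 3 s
  have hentry : ∀ s : ℕ, ∏ i, ext f i ^ (T4).ca i.val s = ζ ^ W s := fun s => by
    show ∏ i : Fin 4, (![f (⟨0, by decide⟩ : Fin (T2).rank), f (⟨1, by decide⟩ : Fin (T2).rank),
      f (⟨0, by decide⟩ : Fin (T2).rank), f (⟨0, by decide⟩ : Fin (T2).rank)] : Fin 4 → Lˣ) i ^ (T4).ca i.val s = _
    rw [Fin.prod_univ_four]
    simp only [Matrix.cons_val_zero, Matrix.cons_val_one, Matrix.cons_val_two, Matrix.cons_val_three,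
      Matrix.head_cons, Matrix.tail_cons, he, ← zpow_mul, ← _root_.zpow_add]
    rfl
  have hroots : ∀ d : (T4).I → L, (Matrix.diagonal d).charpoly.roots = Finset.univ.val.map d := fun d => by
    rw [Matrix.charpoly_diagonal]
    show ((Finset.univ.val.map ((fun a => Polynomial.X - Polynomial.C a) ∘ d)).prod).roots = _
    rw [← Multiset.map_map, Polynomial.roots_multiset_prod_X_sub_C]
  have hcount : ∀ (m : ℤ) (c : L), c ≠ 1 → (Finset.univ.val.map fun x : (T4).I =>
      (Sum.elim (fun _ => (1 : L)) (fun s : Fin (T4).n => ((ζ ^ (m * W s.val) : Lˣ) : L)) x)).count c =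
      ((List.range 24).filter fun s => decide (((ζ ^ (m * W s) : Lˣ) : L) = c)).length := by
    intro m c hc
    rw [Multiset.count_map, ← Finset.filter_val, Finset.card_val, Finset.card_filter, Fintype.sum_sum_type]
    simp only [Sum.elim_inl, Sum.elim_inr, hc, if_false, Finset.sum_const_zero, zero_add]
    rw [← List.countP_eq_length_filter]
    show ∑ s : Fin 24, _ = _
    refine (Fin.sum_univ_eq_sum_range (fun s => if c = ((ζ ^ (m * W s) : Lˣ) : L) then 1 else 0) 24).trans ?_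
    generalize 24 = n
    induction n with
    | zero => simp
    | succ n ih =>
      rw [Finset.sum_range_succ, List.range_succ, List.countP_append, ih]
      by_cases h : c = ((ζ ^ (m * W n) : Lˣ) : L)
      · rw [if_pos h, List.countP_singleton, if_pos (decide_eq_true h.symm)]
      · rw [if_neg h, List.countP_singleton, if_neg (by simpa using Ne.symm h)]
  set c : L := ((ζ ^ (k.val : ℤ) : Lˣ) : L) with hc
  have hc1 : c ≠ 1 := fun h => hk0 (by
    have := (hmodz (u := (k.val : ℤ)) (v := 0)).1 (by rw [zpow_zero]; exact Units.ext h)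
    have := k.2
    omega)
  have hd1 : ((torusHom T4 L (ext f) : GL (T4).I L) : Matrix (T4).I (T4).I L) =
      Matrix.diagonal fun x => Sum.elim (fun _ => (1 : L))
        (fun s : Fin (T4).n => ((ζ ^ (1 * W s.val) : Lˣ) : L)) x := by
    show Matrix.diagonal _ = _
    congr 1
    funext x
    rcases x with i | s
    · rfl
    · show ((∏ i, ext f i ^ (T4).ca i.val s.val : Lˣ) : L) = _
      rw [hentry, ← one_mul (W s.val)]; rfl
  have hd2 : ((torusHom T4 L (ext f) ^ 2 : GL (T4).I L) : Matrix (T4).I (T4).I L) =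
      Matrix.diagonal fun x => Sum.elim (fun _ => (1 : L))
        (fun s : Fin (T4).n => ((ζ ^ (2 * W s.val) : Lˣ) : L)) x := by
    rw [Units.val_pow_eq_pow_val, hd1, Matrix.diagonal_pow]
    congr 1
    funext x
    rcases x with i | s
    · simp
    · simp only [Pi.pow_apply, Sum.elim_inr]
      rw [← Units.val_pow_eq_pow_val, ← zpow_natCast, ← zpow_mul]
      ring_nf
  have h := congrArg (fun p : Polynomial L => p.roots.count c) heq
  simp only [hd1, hd2, hroots, hcount _ _ hc1] at h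
  refine hk ?_
  have hdec : ∀ (m : ℤ) (s : ℕ), decide (((ζ ^ (m * W s) : Lˣ) : L) = c) = decide ((m * W s) % 5 = k.val) := by
    intro m s
    refine decide_eq_decide.2 ?_
    rw [hc, Units.val_inj, hmodz]
    have := k.2
    omega
  simp only [hdec] at h
  simp only [one_mul] at h
  exact h

theorem no_fused {K : Type*} [Field K] [Finite K] {q : ℕ} (hq : IsPrimePow q) (hK : Nat.card K = q ^ 3)
    (h5q : ¬ 5 ∣ q) {g h : GD hq hK} (hg : orderOf g = 5) (hcj : h * g * h⁻¹ = g ^ 2) : False := by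
  classical
  have : Fact (Nat.Prime 5) := ⟨by norm_num⟩
  obtain ⟨F, _, _, κ, j, hF, hj, hjv⟩ := exists_embedding hq hK
  have h3 : ¬ 5 ∣ q ^ 8 + q ^ 4 + 1 := by
    rw [Nat.dvd_iff_mod_eq_zero, Nat.add_mod, Nat.add_mod (q ^ 8), Nat.pow_mod, Nat.pow_mod q 4]
    have : q % 5 ≠ 0 := fun h => h5q (Nat.dvd_of_mod_eq_zero h)
    rcases (show q % 5 = 1 ∨ q % 5 = 2 ∨ q % 5 = 3 ∨ q % 5 = 4 by omega) with h | h | h | h <;> rw [h] <;>
      norm_num
  obtain ⟨c, hc⟩ := exists_conj_range hF j hj 5 h5q h3 (Subgroup.zpowers g)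
    (IsPGroup.of_card (n := 1) (by rw [Nat.card_zpowers, hg, pow_one]))
  obtain ⟨x, hx⟩ := hc g (Subgroup.mem_zpowers g)
  have hxo : orderOf x = 5 := by
    rw [← orderOf_injective j hj, hx, ← hg]
    exact MulEquiv.orderOf_eq (MulAut.conj c) g
  have hconj : c * h * c⁻¹ * j x * (c * h * c⁻¹)⁻¹ = j x ^ 2 := by
    rw [hx, _root_.conj_pow, ← hcj]; group
  -- the characteristic polynomials agree over the small field
  have hcp : (ι x : GL (T4).I F).val.charpoly = (ι (x ^ 2) : GL (T4).I F).val.charpoly := by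
    refine Polynomial.map_injective κ κ.injective ?_
    rw [← Matrix.charpoly_map, ← Matrix.charpoly_map]
    show ((mapGL T4 κ (ι x)) : GL (T4).I K).val.charpoly = ((mapGL T4 κ (ι (x ^ 2))) : GL (T4).I K).val.charpoly
    rw [← hjv, ← hjv, map_pow, ← hconj]
    exact (charpoly_conj_coe _ (j x) (c * h * c⁻¹)).symm
  obtain ⟨E, _, _, L, _, _, ιE, jE, σ, hσ, hfix, hE, hL⟩ := G2OddOrders.exists_tower (F := F) rfl
  set μ : F →+* L := jE.comp ιE
  set xL : G2Inv.GG L := ⟨mapGL T2 μ (x : GL (T2).I F), map_group μ Data.G2.valid ⟨_, x.2, rfl⟩⟩ with hxL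
  have hxLo : orderOf (xL : GL (T2).I L) = 5 := by
    rw [hxL]
    exact (orderOf_injective _ (mapGL_inj μ) _).trans ((Subgroup.orderOf_coe x).trans hxo)
  obtain ⟨y, hy, f, hf, -⟩ := G2OddOrders.exists_torus_conj (K := L) (m := 5)
    (fun h3 => absurd h3 (by norm_num)) xL.2 (by decide) le_rfl hxLo (fun l hl hlm => by
      obtain rfl := (Nat.prime_dvd_prime_iff_eq hl (by norm_num : Nat.Prime 5)).1 hlm
      rw [hL, hF]
      have hcop : Nat.Coprime q 5 := ((Nat.Prime.coprime_iff_not_dvd (by norm_num)).2 h5q).symm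
      have h1 := Nat.ModEq.pow_totient hcop
      rw [Nat.totient_prime (by norm_num)] at h1
      exact ((Nat.modEq_iff_dvd' (Nat.one_le_pow _ _ (hF ▸ Fintype.card_pos))).1 h1.symm).trans
        (Nat.pow_sub_one_dvd_pow_sub_one _ (by norm_num)))
  have hfo : orderOf f = 5 := by
    rw [← orderOf_injective _ (G2Orders.torus_inj (K := L)), hf]
    exact (MulEquiv.orderOf_eq (MulAut.conj y) _).trans hxLo
  let yL : G2Inv.GG L := ⟨y, hy⟩
  refine charpoly_ne f (hfo ▸ pow_orderOf_eq_one f) ?_ ?_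
  · intro h
    have := congrArg orderOf h
    rw [hf, orderOf_one] at this
    rw [show orderOf (y * (xL : GL (T2).I L) * y⁻¹) = 5 from (MulEquiv.orderOf_eq (MulAut.conj y) _).trans hxLo]
      at this
    omega
  · have hp : ((yL * xL * yL⁻¹ : G2Inv.GG L) : GL (T2).I L) = torusHom T2 L f := by rw [hf]; rfl
    have hcL : (ι xL : GL (T4).I L).val.charpoly = (ι (xL ^ 2) : GL (T4).I L).val.charpoly := by
      rw [← ι_map μ x xL rfl, ← ι_map μ (x ^ 2) (xL ^ 2) (by simp [hxL, map_pow])]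
      show (μ.mapMatrix _).charpoly = (μ.mapMatrix _).charpoly
      rw [RingHom.mapMatrix_apply, RingHom.mapMatrix_apply, Matrix.charpoly_map, Matrix.charpoly_map, hcp]
    rw [← ι_torus f hp, map_mul, map_mul, map_inv, _root_.conj_pow, ← map_pow, Units.val_mul, Units.val_mul,
      Units.val_mul, Units.val_mul, Matrix.coe_units_inv, Matrix.charpoly_units_conj,
      Matrix.charpoly_units_conj, hcL]

/-- No section with an element of order five conjugate to its square, away from characteristic five. -/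
theorem no_seven {K : Type*} [Field K] [Finite K] {q : ℕ} (hq : IsPrimePow q) (hK : Nat.card K = q ^ 3)
    (h5q : ¬ 5 ∣ q) (H : Subgroup (GD hq hK)) {Q : Type*} [Group Q] (φ : H →* Q)
    (hφ : Function.Surjective φ) {σ τ : Q} (hσ : orderOf σ = 5) (hτ : τ * σ * τ⁻¹ = σ ^ 2) : False := by
  classical
  have : Fact (Nat.Prime 5) := ⟨by norm_num⟩
  obtain ⟨F, _, _, κ, j, hF, hj, -⟩ := exists_embedding hq hK
  obtain ⟨p', hchar⟩ := CharP.exists F
  obtain ⟨d, hp', hd⟩ := FiniteField.card F p'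
  have : Fact p'.Prime := ⟨hp'⟩
  have hp5 : p' ≠ 5 := fun h => h5q (by rw [← hF, hd, h]; exact dvd_pow_self 5 d.ne_zero)
  have h3 : ¬ 5 ∣ q ^ 8 + q ^ 4 + 1 := by
    rw [Nat.dvd_iff_mod_eq_zero, Nat.add_mod, Nat.add_mod (q ^ 8), Nat.pow_mod, Nat.pow_mod q 4]
    have : q % 5 ≠ 0 := fun h => h5q (Nat.dvd_of_mod_eq_zero h)
    rcases (show q % 5 = 1 ∨ q % 5 = 2 ∨ q % 5 = 3 ∨ q % 5 = 4 by omega) with h | h | h | h <;> rw [h] <;>
      norm_num
  have hcomm : ∀ P : Subgroup (GD hq hK), IsPGroup 5 P → ∀ u ∈ P, ∀ v ∈ P, u * v = v * u := by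
    intro P hP u hu v hv
    obtain ⟨c, hc⟩ := exists_conj_range hF j hj 5 h5q h3 P hP
    obtain ⟨u', hu'⟩ := hc u hu
    obtain ⟨v', hv'⟩ := hc v hv
    have hP' : IsPGroup 5 ((P.map (MulAut.conj c).toMonoidHom).comap j) :=
      (hP.map _).comap_of_injective j hj
    have hab := G2AltSection.five_comm (F := F) hp5 hP' u' ⟨u, hu, hu'.symm⟩ v' ⟨v, hv, hv'.symm⟩
    refine (MulAut.conj c).injective ?_
    rw [map_mul, map_mul, MulAut.conj_apply, MulAut.conj_apply, ← hu', ← hv', ← map_mul, ← map_mul, hab]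
  obtain ⟨g, h, hg, hgh⟩ := exists_fused hcomm H φ hφ hσ hτ
  exact no_fused _ hK h5q hg hgh

end CfsgLib.KnownA.D4Sec
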