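import Cfsg.Agent.Lib.KnownB.GraphFix.InstD4
import Cfsg.Agent.Lib.KnownB.FieldAut.Fixed
import Cfsg.Agent.Lib.Chevalley.CoxeterTorus.Main

/-!
The group of type G₂ embedded in the group of type D₄ as the fixed points of triality, compatibly
with field maps and with the tori.
-/

set_option autoImplicit false
set_option maxRecDepth 20000

namespace CfsgLib.KnownA.D4Sec

open CfsgLib.Chevalley CfsgLib.Chevalley.Tbl Matrix
open CfsgLib.KnownB.FieldAut (mapGL mapGL_inj map_xU map_group map_torus)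
open CfsgLib.KnownB (GraphFix.embF GraphFix.embF_cancel GraphFix.of_chkEmb GraphFix.mem_allI)

local notation "T4" => Data.D4.tbl
local notation "T2" => Data.G2.tbl
local notation "emb4" => CfsgLib.KnownB.GraphFix.D4.emb

variable (F : Type*) [Field F]

/-- The setup with trivial field part. -/
noncomputable abbrev fold : AbSetup T4 F := CfsgLib.KnownB.GraphFix.D4.setup F

theorem hc4 : ∀ c : (T2).I, ∃ x : (T4).I, (emb4 x).1 = c ∧ Nat.beq (emb4 x).2.natAbs 1 = true := by
  intro c
  have key : ((CfsgLib.KnownB.GraphFix.allI T2).all fun c => (CfsgLib.KnownB.GraphFix.allI T4).any fun x =>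
      decide ((emb4 x).1 = c) && Nat.beq (emb4 x).2.natAbs 1) = true := by decide +kernel
  simp only [List.all_eq_true, List.any_eq_true, Bool.and_eq_true, decide_eq_true_eq] at key
  obtain ⟨x, -, h1, h2⟩ := key c (GraphFix.mem_allI c)
  exact ⟨x, h1, h2⟩

variable {F}

/-- The two elements act compatibly on the folded module. -/
def Rel (g : GL (T4).I F) (p : GL (T2).I F) : Prop :=
  (g : Matrix (T4).I (T4).I F) * GraphFix.embF F emb4 = GraphFix.embF F emb4 * (p : Matrix (T2).I (T2).I F)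

theorem rel_unique {g : GL (T4).I F} {p p' : GL (T2).I F} (h : Rel g p) (h' : Rel g p') : p = p' :=
  Units.ext (GraphFix.embF_cancel hc4 (h.symm.trans h'))

theorem rel_mul {g g' : GL (T4).I F} {p p' : GL (T2).I F} (h : Rel g p) (h' : Rel g' p') :
    Rel (g * g') (p * p') := by
  unfold Rel at *
  rw [Units.val_mul, Units.val_mul, Matrix.mul_assoc, h', ← Matrix.mul_assoc, h, Matrix.mul_assoc]

theorem rel_one : Rel (1 : GL (T4).I F) (1 : GL (T2).I F) := by simp [Rel]

theorem rel_inv {g : GL (T4).I F} {p : GL (T2).I F} (h : Rel g p) : Rel g⁻¹ p⁻¹ := by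
  unfold Rel at *
  calc ((g⁻¹ : GL (T4).I F) : Matrix (T4).I (T4).I F) * GraphFix.embF F emb4
      = ((g⁻¹ : GL (T4).I F) : Matrix (T4).I (T4).I F) *
          (GraphFix.embF F emb4 * (p : Matrix (T2).I (T2).I F)) *
          ((p⁻¹ : GL (T2).I F) : Matrix (T2).I (T2).I F) := by
        rw [Matrix.mul_assoc, Matrix.mul_assoc, ← Units.val_mul, mul_inv_cancel, Units.val_one, Matrix.mul_one]
    _ = ((g⁻¹ : GL (T4).I F) : Matrix (T4).I (T4).I F) * (g : Matrix (T4).I (T4).I F) *
          GraphFix.embF F emb4 * ((p⁻¹ : GL (T2).I F) : Matrix (T2).I (T2).I F) := by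
        rw [← h, ← Matrix.mul_assoc]
    _ = _ := by rw [← Units.val_mul, inv_mul_cancel, Units.val_one, Matrix.one_mul]

theorem rel_exists {p : GL (T2).I F} (hp : p ∈ (T2).datum.group F) :
    ∃ g ∈ (fold F).S.fix, Rel g p := by
  let R : Subgroup (GL (T2).I F) :=
    { carrier := {p | ∃ g ∈ (fold F).S.fix, Rel g p}
      one_mem' := ⟨1, one_mem _, rel_one⟩
      mul_mem' := fun ⟨g, hg, h⟩ ⟨g', hg', h'⟩ => ⟨g * g', mul_mem hg hg', rel_mul h h'⟩
      inv_mem' := fun ⟨g, hg, h⟩ => ⟨g⁻¹, inv_mem hg, rel_inv h⟩ }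
  refine (CfsgLib.KnownA.ChevalleyGen.group_le Data.G2.valid R fun i hi t => ?_) hp
  have key : ∀ i < (T2).rank, ∃ j : Fin 2, CfsgLib.KnownB.GraphFix.D4.tgt.getD j.val 0 = i ∧
      CfsgLib.KnownB.GraphFix.chkEmb T4 T2 emb4 ((T4).simples ([[1], [0, 2, 3]].getD j.val []))
        ((T2).simple i) = true ∧
      CfsgLib.KnownB.GraphFix.chkEmb T4 T2 emb4 (((T4).simples ([[1], [0, 2, 3]].getD j.val [])).map (T4).neg)
        ((T2).neg ((T2).simple i)) = true := by
    decide +kernel
  obtain ⟨j, -, h1, h2⟩ := key i hi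
  have hfit : (fold F).Fit j.val t := Function.iterate_fixed rfl _
  have hcyc : ∀ L : List ℕ, cycWord (fold F).D.f L t = L.map fun r => (r, t) := by
    intro L
    apply List.ext_getElem (by simp [cycWord])
    intro k h1 h2
    simp only [List.length_map] at h2
    simp [cycWord, List.getElem?_eq_getElem h2, Function.iterate_fixed (show (fold F).D.f t = t from rfl)]
  refine ⟨⟨_, (fold F).pos_fix j.2 hfit, ?_⟩, ⟨_, (fold F).neg_fix j.2 hfit, ?_⟩⟩
  · rw [hcyc]; exact GraphFix.of_chkEmb Data.D4.valid Data.G2.valid h1 F t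
  · rw [hcyc]; exact GraphFix.of_chkEmb Data.D4.valid Data.G2.valid h2 F t

variable [Finite F]

theorem rel_left_unique {g g' : GL (T4).I F} (hg : g ∈ (fold F).S.fix) (hg' : g' ∈ (fold F).S.fix)
    {p : GL (T2).I F} (hp : p ∈ (T2).datum.group F) (h : Rel g p) (h' : Rel g' p) : g = g' := by
  obtain ⟨e⟩ := CfsgLib.KnownB.GraphFix.D4.iso F
  choose ψ hψ hr using fun p : ↥((T2).datum.group F) => rel_exists p.2
  let Ψ : ↥((T2).datum.group F) → ↥(fold F).S.fix := fun p => ⟨ψ p, hψ p⟩
  have hinj : Function.Injective Ψ := fun a b hab => by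
    have hab' : ψ a = ψ b := congrArg Subtype.val hab
    exact Subtype.ext (rel_unique (hr a) (hab' ▸ hr b))
  have hbij := hinj.bijective_of_nat_card_le (Nat.card_congr e.toEquiv).le
  obtain ⟨a, ha⟩ := hbij.2 ⟨g, hg⟩
  obtain ⟨b, hb⟩ := hbij.2 ⟨g', hg'⟩
  have ha' : ψ a = g := congrArg Subtype.val ha
  have hb' : ψ b = g' := congrArg Subtype.val hb
  have e1 : (a : GL (T2).I F) = p := rel_unique (hr a) (ha'.symm ▸ h)
  have e2 : (b : GL (T2).I F) = p := rel_unique (hr b) (hb'.symm ▸ h')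
  rw [← ha', ← hb', Subtype.ext (e1.trans e2.symm)]

/-- The embedding. -/
noncomputable def ι : ↥((T2).datum.group F) →* GL (T4).I F :=
  MonoidHom.mk' (fun p => (rel_exists p.2).choose) fun a b =>
    rel_left_unique (rel_exists (a * b).2).choose_spec.1
      (mul_mem (rel_exists a.2).choose_spec.1 (rel_exists b.2).choose_spec.1) (a * b).2
      (rel_exists (a * b).2).choose_spec.2
      (rel_mul (rel_exists a.2).choose_spec.2 (rel_exists b.2).choose_spec.2)

theorem ι_fix (p : ↥((T2).datum.group F)) : ι p ∈ (fold F).S.fix := (rel_exists p.2).choose_spec.1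

theorem ι_rel (p : ↥((T2).datum.group F)) : Rel (ι p) (p : GL (T2).I F) := (rel_exists p.2).choose_spec.2

theorem ι_eq {p : ↥((T2).datum.group F)} {g : GL (T4).I F} (hg : g ∈ (fold F).S.fix)
    (h : Rel g (p : GL (T2).I F)) : ι p = g :=
  rel_left_unique (ι_fix p) hg p.2 (ι_rel p) h

theorem ι_injective : Function.Injective (ι (F := F)) := fun a b h =>
  Subtype.ext (rel_unique (ι_rel a) (h ▸ ι_rel b))

omit [Finite F] in
theorem gprod_map {L : Type*} [Field L] (κ : F →+* L) {T : Tbl} (hT : T.Valid) :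
    ∀ l : List (ℕ × F), (∀ p ∈ l, p.1 < T.n) →
      mapGL T κ (T.gprod l) = T.gprod (l.map fun p => (p.1, κ p.2)) := by
  intro l
  induction l with
  | nil => intro _; exact map_one _
  | cons p l ih =>
    intro h
    rw [List.map_cons, gprod_cons, gprod_cons, map_mul, map_xU κ hT (h p List.mem_cons_self),
      ih fun q hq => h q (List.mem_cons_of_mem _ hq)]

omit [Finite F] in
/-- Field maps between setups with the same orbits. -/
theorem genSub_map {L : Type*} [Field L] {T : Tbl} (A : AbSetup T F) (B : AbSetup T L) (κ : F →+* L)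
    (ho : A.o = B.o) (hSs : A.Ss = B.Ss) (hf : ∀ t, B.D.f (κ t) = κ (A.D.f t)) :
    A.G.map (mapGL T κ) ≤ B.G := by
  rw [Subgroup.map_le_iff_le_comap]
  refine (Subgroup.closure_le _).mpr ?_
  rintro x ⟨w, hw, hx⟩
  have hT := A.D.ok.valid
  obtain ⟨j, hj, t, ht, hw'⟩ := A.hW w hw
  have hL : A.L j = B.L j := by rw [AbSetup.L, AbSetup.L, hSs]
  have hit : ∀ e t, (⇑B.D.f)^[e] (κ t) = κ ((⇑A.D.f)^[e] t) := by
    intro e
    induction e with
    | zero => intro t; rfl
    | succ e ih => intro t; rw [Function.iterate_succ_apply, Function.iterate_succ_apply, hf, ih]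
  have hfit : B.Fit j (κ t) := by
    show (⇑B.D.f)^[(B.Ss.getD j []).length] (κ t) = κ t
    rw [← hSs, hit, ht]
  have hmap : ∀ M : List ℕ, (cycWord A.D.f M t).map (fun p => (p.1, κ p.2)) = cycWord B.D.f M (κ t) := by
    intro M
    simp only [cycWord, List.map_map]
    exact List.map_congr_left fun e _ => by simp [hit]
  show mapGL T κ x ∈ B.G
  rcases hw' with rfl | rfl
  · rw [show x = T.gprod (cycWord A.D.f (A.L j) t) from
      Units.ext (hx.trans (gprod_wordMat hT (A.D.cycWord_lt (A.facts hj).1 t))),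
      gprod_map κ hT _ (fun p hp => A.D.cycWord_lt (A.facts hj).1 t p hp), hmap, hL]
    exact B.pos_mem (ho ▸ hj) hfit
  · rw [show x = T.gprod (cycWord A.D.f ((A.L j).map T.neg) t) from
      Units.ext (hx.trans (gprod_wordMat hT (A.D.cycWord_lt (A.facts hj).2.1 t))),
      gprod_map κ hT _ (fun p hp => A.D.cycWord_lt (A.facts hj).2.1 t p hp), hmap, hL]
    exact B.neg_mem (ho ▸ hj) hfit

theorem ι_mem_G (p : ↥((T2).datum.group F)) : ι p ∈ (fold F).G := by
  rw [CfsgLib.KnownB.GraphFix.D4.G_eq F]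
  exact ι_fix p

/-- The embedding commutes with field maps. -/
theorem ι_map {L : Type*} [Field L] [Finite L] (κ : F →+* L) (p : ↥((T2).datum.group F))
    (p' : ↥((T2).datum.group L)) (hp : (p' : GL (T2).I L) = mapGL T2 κ (p : GL (T2).I F)) :
    mapGL T4 κ (ι p) = ι p' := by
  refine (ι_eq ?_ ?_).symm
  · rw [← CfsgLib.KnownB.GraphFix.D4.G_eq L]
    exact genSub_map (fold F) (fold L) κ rfl rfl (fun t => rfl) ⟨_, ι_mem_G p, rfl⟩
  · have hE : (GraphFix.embF F emb4).map κ = GraphFix.embF L emb4 := by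
      ext x c
      simp [GraphFix.embF, Matrix.map_apply]
    have h := congrArg (fun M : Matrix (T4).I (T2).I F => M.map κ) (ι_rel p)
    simp only [Matrix.map_mul, hE] at h
    rw [Rel, hp]
    exact h

/-- The torus parameters of the fold. -/
def ext (f : Fin (T2).rank → Fˣ) : Fin (T4).rank → Fˣ :=
  (![f (⟨0, by decide⟩ : Fin (T2).rank), f (⟨1, by decide⟩ : Fin (T2).rank),
    f (⟨0, by decide⟩ : Fin (T2).rank), f (⟨0, by decide⟩ : Fin (T2).rank)] : Fin 4 → Fˣ)

theorem torus_facts : ∀ x : (T4).I, ((emb4 x).2 ≠ 0) ∧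
    match x, (emb4 x).1 with
    | Sum.inl _, Sum.inl _ => True
    | Sum.inr s, Sum.inr u => (T2).ca 0 u.val = (T4).ca 0 s.val + (T4).ca 2 s.val + (T4).ca 3 s.val ∧
        (T2).ca 1 u.val = (T4).ca 1 s.val
    | _, _ => False := by
  intro x
  have key : ((CfsgLib.KnownB.GraphFix.allI T4).all fun x => decide ((emb4 x).2 ≠ 0) &&
    match x, (emb4 x).1 with
    | Sum.inl _, Sum.inl _ => true
    | Sum.inr s, Sum.inr u => decide ((T2).ca 0 u.val = (T4).ca 0 s.val + (T4).ca 2 s.val + (T4).ca 3 s.val ∧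
        (T2).ca 1 u.val = (T4).ca 1 s.val)
    | _, _ => false) = true := by decide +kernel
  have := List.all_eq_true.1 key x (GraphFix.mem_allI x)
  rcases x with i | s <;> generalize emb4 _ = y at this ⊢ <;> rcases y with ⟨j | u, z⟩ <;> simp at this ⊢ <;>
    exact this

theorem tCh_ext (f : Fin (T2).rank → Fˣ) (s u : ℕ)
    (h : (T2).ca 0 u = (T4).ca 0 s + (T4).ca 2 s + (T4).ca 3 s ∧ (T2).ca 1 u = (T4).ca 1 s) :
    ∏ i, ext f i ^ (T4).ca i.val s = ∏ i, f i ^ (T2).ca i.val u := by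
  show ∏ i : Fin 4, (![f (⟨0, by decide⟩ : Fin (T2).rank), f (⟨1, by decide⟩ : Fin (T2).rank),
    f (⟨0, by decide⟩ : Fin (T2).rank), f (⟨0, by decide⟩ : Fin (T2).rank)] : Fin 4 → Fˣ) i ^ (T4).ca i.val s =
    ∏ i : Fin 2, f i ^ (T2).ca i.val u
  rw [Fin.prod_univ_four, Fin.prod_univ_two]
  simp [h.1, h.2, _root_.zpow_add]
  have key : ∀ a b c d e : Fˣ, a * d * b * c = a * b * c * d := fun a b c d _ => by ac_rfl
  exact key _ _ _ _ 1

theorem rel_torus (f : Fin (T2).rank → Fˣ) : Rel (torusHom T4 F (ext f)) (torusHom T2 F f) := by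
  show Matrix.diagonal _ * _ = _ * Matrix.diagonal _
  refine Matrix.ext fun x c => ?_
  rw [Matrix.diagonal_mul, Matrix.mul_diagonal, GraphFix.embF, Matrix.map_apply]
  simp only [CfsgLib.KnownB.GraphFix.embM, Matrix.of_apply]
  split_ifs with hx
  · subst hx
    rw [mul_comm]
    congr 1
    obtain ⟨-, h⟩ := torus_facts x
    rcases x with i | s <;> generalize (emb4 _).1 = y at h ⊢ <;> rcases y with j | u <;> simp at h
    · rfl
    · exact congrArg Units.val (tCh_ext f s.val u.val h)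
  · simp

theorem torus_fix (f : Fin (T2).rank → Fˣ) : torusHom T4 F (ext f) ∈ (fold F).S.fix := by
  rw [← CfsgLib.KnownB.GraphFix.D4.G_eq F]
  have hdec : ext f = (fold F).orbTorus 0 (f ⟨1, by decide⟩) * (fold F).orbTorus 1 (f ⟨0, by decide⟩) := by
    have o0 : ∀ c, (fold F).orbTorus 0 c = Pi.mulSingle (1 : Fin 4) c := fun c => List.prod_singleton
    have o1 : ∀ c, (fold F).orbTorus 1 c = Pi.mulSingle (0 : Fin 4) c *
        (Pi.mulSingle (2 : Fin 4) c * Pi.mulSingle (3 : Fin 4) c) := fun c => by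
      show ([_, _, _] : List (Fin (T4).rank → Fˣ)).prod = _
      simp only [List.prod_cons, List.prod_nil, mul_one]
      rfl
    rw [o0, o1]
    have key : ∀ (a b : Fˣ) (i : Fin 4), (![a, b, a, a] : Fin 4 → Fˣ) i =
        (Pi.mulSingle (1 : Fin 4) b * (Pi.mulSingle (0 : Fin 4) a * (Pi.mulSingle (2 : Fin 4) a *
          Pi.mulSingle (3 : Fin 4) a)) : Fin 4 → Fˣ) i := by
      intro a b i
      fin_cases i <;> simp
    exact funext (key _ _)
  rw [hdec, map_mul]
  exact mul_mem ((fold F).orbTorus_mem (show _ < 2 by norm_num) (Function.iterate_fixed rfl _))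
    ((fold F).orbTorus_mem (show _ < 2 by norm_num) (Function.iterate_fixed rfl _))

theorem ι_torus (f : Fin (T2).rank → Fˣ) {p : ↥((T2).datum.group F)}
    (hp : (p : GL (T2).I F) = torusHom T2 F f) : ι p = torusHom T4 F (ext f) :=
  ι_eq (torus_fix f) (hp ▸ rel_torus f)

end CfsgLib.KnownA.D4Sec
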